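import Cfsg.Agent.L33.C

/-!
The computational steps.
-/

set_option autoImplicit false
set_option linter.unusedSectionVars false

namespace CF.L33
open CF.HSo CF.Comp Subgroup CF.Loc

universe u

noncomputable def fw {α β : Type} (l : List β) (k : List β → α) : α :=
  List.rec (motive := fun _ => α) (k []) (fun a t _ => k (a :: t)) l

theorem fw_eq {α β : Type} (l : List β) (k : List β → α) : fw l k = k l := by cases l <;> rfl

noncomputable def ivK (N : ℕ) (m : Op2) (a b : ℕ) : Bool := an (blt a N) (an (blt b N) (Nat.beq (m a b) (nat_lit 0)))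

noncomputable def ropL (m : Op2) (os : List Op) (g : List ℕ) : (List ℕ → Bool) → Bool :=
  List.rec (motive := fun _ => (List ℕ → Bool) → Bool) (fun k => k []) (fun a _ ih k =>
    rop m os a fun x => ih fun r => k (x :: r)) g

inductive Ts
  | e (w v : List ℕ)
  | n (w v : List ℕ)
  | f (w : List ℕ) (j : ℕ)

noncomputable def tst (m : Op2) (env : List ℕ) (T : List Ts) : Bool :=
  lall (fun t => Ts.rec (motive := fun _ => Bool) (fun w v => Nat.beq (prd m env w) (prd m env v))
    (fun w v => nt (Nat.beq (prd m env w) (prd m env v))) (fun w M => nt (tb M (prd m env w))) t) T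

noncomputable def rts {α : Type} (m : Op2) (fs : List Fa) (env : List ℕ) (d : α) (T : List Ts) : (List Ts → α) → α :=
  List.rec (motive := fun _ => (List Ts → α) → α) (fun k => k []) (fun t _ ih k => Ts.rec (motive := fun _ => α)
    (fun w v => fL w fun w => fL v fun v => Bool.rec d (ih fun r => k (.e w v :: r)) (Nat.beq (prd m env w) (prd m env v)))
    (fun w v => fL w fun w => fL v fun v => Bool.rec (ih fun r => k (.n w v :: r)) d (Nat.beq (prd m env w) (prd m env v)))
    (fun w j => match nf fs j with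
      | .nf a M => fL w fun w => Bool.rec d (ih fun r => k (.f w M :: r)) (Nat.beq (prd m env w) a)
      | _ => d) t) T

noncomputable def f2 {α : Type} (l : List (ℕ × ℕ)) : (List (ℕ × ℕ) → α) → α :=
  List.rec (motive := fun _ => (List (ℕ × ℕ) → α) → α) (fun k => k [])
    (fun x _ ih k => force x.1 fun a => force x.2 fun b => ih fun r => k ((a, b) :: r)) l

theorem f2_eq {α : Type} (l : List (ℕ × ℕ)) (k : List (ℕ × ℕ) → α) : f2 l k = k l := by
  induction l generalizing k with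
  | nil => rfl
  | cons x l ih =>
    show force x.1 (fun a => force x.2 fun b => f2 l fun r => k ((a, b) :: r)) = _
    rw [force_eq, force_eq, ih]

noncomputable def fLL {α : Type} (l : List (List ℕ)) : (List (List ℕ) → α) → α :=
  List.rec (motive := fun _ => (List (List ℕ) → α) → α) (fun k => k [])
    (fun x _ ih k => fL x fun a => ih fun r => k (a :: r)) l

theorem fLL_eq {α : Type} (l : List (List ℕ)) (k : List (List ℕ) → α) : fLL l k = k l := by
  induction l generalizing k with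
  | nil => rfl
  | cons x l ih =>
    show fL x (fun a => fLL l fun r => k (a :: r)) = _
    rw [fL_eq, ih]

noncomputable def dm (kn : List T3) : List ℕ := lmap (fun r => r.1) kn
noncomputable def im (kn : List T3) : List ℕ := lmap (fun r => r.2.2) kn

noncomputable def rfs (m : Op2) (fs : List Fa) (d : ℕ) (env cenv : List ℕ) (TT : List (List Ts)) :
    List (ℕ × ℕ) → (List (ℕ × ℕ) → Fa) → Fa :=
  List.rec (motive := fun _ => List (ℕ × ℕ) → (List (ℕ × ℕ) → Fa) → Fa) (fun us k => k us) (fun T _ ih us k =>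
    List.rec (motive := fun _ => Fa) .tt (fun u r _ => rts m fs (u.1 :: env) .tt T fun T' =>
      force (filM (fun c => tst m (c :: cenv) T') d u.2) fun M => ih r fun r' => k ((u.1, M) :: r')) us) TT

noncomputable def nth0 (gs : List (ℕ × ℕ)) (i : ℕ) : ℕ := (nth (nat_lit 0, nat_lit 0) gs i).1

noncomputable def chn (N : ℕ) (m : Op2) (gs : List (ℕ × ℕ)) (ch : List T3) : ℕ → (ℕ → Bool) → Bool :=
  List.rec (motive := fun _ => ℕ → (ℕ → Bool) → Bool) (fun R k => k R) (fun c _ ih R k =>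
    force (nth0 gs c.2.1) fun g => an (blt c.1 N) (an (tb R c.2.2) (an (Nat.beq (m g c.1) (m c.2.2 g))
      (force (Nat.lor (Nat.shiftLeft (nat_lit 1) c.1) R) fun R' => ih R' k)))) ch

variable {G : Type u} [Group G]

theorem f2_imp {α β : Type*} {R S : α → β → Prop} {l : List α} {l' : List β} (h : List.Forall₂ R l l')
    (k : ∀ a ∈ l, ∀ b ∈ l', R a b → S a b) : List.Forall₂ S l l' := by
  rw [List.forall₂_iff_zip] at h ⊢
  exact ⟨h.1, fun m => k _ (List.of_mem_zip m).1 _ (List.of_mem_zip m).2 (h.2 m)⟩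

theorem f2_left {α β : Type*} {R : α → β → Prop} {l : List α} {l' : List β} (h : List.Forall₂ R l l') {a : α}
    (ha : a ∈ l) : ∃ b ∈ l', R a b := by
  induction h with
  | nil => nomatch ha
  | cons r _ ih =>
    rcases List.mem_cons.1 ha with rfl | ha
    exacts [⟨_, List.mem_cons_self, r⟩, (ih ha).imp fun _ q => ⟨List.mem_cons_of_mem _ q.1, q.2⟩]

theorem f2_right {α β : Type*} {R : α → β → Prop} {l : List α} {l' : List β} (h : List.Forall₂ R l l') {b : β}
    (hb : b ∈ l') : ∃ a ∈ l, R a b := f2_left h.flip hb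

theorem Cl.mem {ψ : ℕ → G} {l : List ℕ} {a : ℕ} (h : a ∈ l) : ψ a ∈ Cl ψ l := subset_closure ⟨a, h, rfl⟩
theorem Cl.le {ψ : ℕ → G} {l : List ℕ} {K : Subgroup G} (h : ∀ a ∈ l, ψ a ∈ K) : Cl ψ l ≤ K :=
  (closure_le _).2 (by rintro _ ⟨a, ha, rfl⟩; exact h a ha)

theorem mem_dm {kn : List T3} {a : ℕ} : a ∈ dm kn ↔ ∃ r ∈ kn, r.1 = a := by rw [dm, lmap_eq, List.mem_map]
theorem mem_im {kn : List T3} {a : ℕ} : a ∈ im kn ↔ ∃ r ∈ kn, r.2.2 = a := by rw [im, lmap_eq, List.mem_map]

theorem Kn.f2 {ψ : ℕ → G} {n : ℕ} {g : G} {kn : List T3} (h : Kn ψ n g kn) : List.Forall₂ (Mp ψ n g) (dm kn) (im kn) := by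
  rw [dm, im, lmap_eq, lmap_eq, List.forall₂_map_left_iff, List.forall₂_map_right_iff, List.forall₂_same]
  exact fun r hr => (h r hr).1

theorem Mp.conj {ψ : ℕ → G} {n : ℕ} {g : G} {a b : ℕ} (h : Mp ψ n g a b) : IsConj (ψ a) (ψ b) := isConj_iff.2 ⟨g, h.2.2⟩

section
variable {E : Env G} {W : List Lv} {m : Op2} {fs : List Fa} {xs : List G} (C : Cx E W m fs xs)

local notation "φ" => ev W xs
local notation "N" => sz W

theorem Og.eq {ψ : ℕ → G} {n : ℕ} {g : G} {os : List Op} (h : Og ψ n m g os) {a b : ℕ} (ha : a < n)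
    (k : rop m os a (Nat.beq b) = true) : Mp ψ n g a b := by
  obtain ⟨x, p, q⟩ := h ha k
  exact beq_iff.1 q ▸ p

theorem Og.ropL {ψ : ℕ → G} {n : ℕ} {g : G} {os : List Op} (h : Og ψ n m g os) {l : List ℕ} {k : List ℕ → Bool}
    (hl : ∀ a ∈ l, a < n) (q : ropL m os l k = true) : ∃ cs, List.Forall₂ (Mp ψ n g) l cs ∧ k cs = true := by
  induction l generalizing k with
  | nil => exact ⟨[], .nil, q⟩
  | cons a l ih =>
    obtain ⟨x, p, r⟩ := h (hl a List.mem_cons_self) q
    obtain ⟨cs, s, t⟩ := ih (fun b hb => hl b (List.mem_cons_of_mem _ hb)) r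
    exact ⟨_, .cons p s, t⟩

include C

theorem Cx.iv {a b : ℕ} (h : ivK N m a b = true) : a < N ∧ b < N ∧ φ b = (φ a)⁻¹ := by
  simp only [ivK, an_iff, blt_iff, beq_iff] at h
  exact ⟨h.1, h.2.1, C.inv h.1 h.2.1 h.2.2⟩

theorem Cx.rsvF {ops : List T3} {k : List Op → Fa} (h : ∀ os g, Og φ N m g os → Sem E φ N (k os)) :
    Sem E φ N (L33.rsv N m fs .tt ops k) := C.rsv (show Sem E φ N .tt from trivial) h

theorem Cx.prd {g : G} {e e' : List ℕ} (h : List.Forall₂ (Mp φ N g) e e') (w : List ℕ) :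
    Mp φ N g (prd m e w) (prd m e' w) := prd_rel (C.mp0 g) C.mpm h w

theorem Cx.prdK {e : List ℕ} {K : Subgroup G} (h : ∀ a ∈ e, a < N ∧ φ a ∈ K) (w : List ℕ) :
    L33.prd m e w < N ∧ φ (L33.prd m e w) ∈ K :=
  prd_un (Q := fun a => a < N ∧ φ a ∈ K) ⟨C.pos, C.z ▸ one_mem K⟩
    (fun p q => ⟨C.lt p.1 q.1, C.mu p.1 q.1 ▸ mul_mem p.2 q.2⟩) h w

theorem Cx.rts {α : Type} {d : α} {P : α → Prop} (hd : P d) {env : List ℕ} {T : List Ts} {k : List Ts → α}
    (h : ∀ T', (∀ g ce, List.Forall₂ (Mp φ N g) env ce → tst m ce T' = true) → P (k T')) : P (rts m fs env d T k) := by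
  induction T generalizing k with
  | nil => exact h [] fun _ _ _ => rfl
  | cons t T ih =>
    cases t with
    | e w v =>
      show P (fL w _)
      rw [fL_eq, fL_eq]
      cases c : Nat.beq (L33.prd m env w) (L33.prd m env v)
      · exact hd
      refine ih fun T' q => h _ fun g ce r => an_iff.2 ⟨beq_iff.2 ?_, q g ce r⟩
      exact C.inj _ (C.prd r w).2.1 _ (C.prd r v).2.1 (by rw [← (C.prd r w).2.2, beq_iff.1 c, (C.prd r v).2.2])
    | n w v =>
      show P (fL w _)
      rw [fL_eq, fL_eq]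
      cases c : Nat.beq (L33.prd m env w) (L33.prd m env v)
      swap
      · exact hd
      refine ih fun T' q => h _ fun g ce r => an_iff.2 ⟨nt_iff.2 fun e => ?_, q g ce r⟩
      have := (C.prd r w).2.2.trans ((congrArg φ (beq_iff.1 e)).trans (C.prd r v).2.2.symm)
      exact Bool.noConfusion (c.symm.trans (beq_iff.2 (C.inj _ (C.prd r w).1 _ (C.prd r v).1 (by simpa using this))))
    | f w j =>
      show P (match nf fs j with
        | .nf a M => fL w fun w => Bool.rec d (L33.rts m fs env d T fun r => k (.f w M :: r)) (Nat.beq (L33.prd m env w) a)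
        | _ => d)
      have s := C.nth j
      split
      swap
      · exact hd
      rename_i a M e
      rw [e] at s
      rw [fL_eq]
      cases c : Nat.beq (L33.prd m env w) a
      · exact hd
      exact ih fun T' q => h _ fun g ce r => an_iff.2
        ⟨nt_iff.2 fun e => s.2.2 _ (tb_iff.1 e) (beq_iff.1 c ▸ (C.prd r w).conj), q g ce r⟩

theorem Cx.rfs {g : G} {env ce : List ℕ} (h : List.Forall₂ (Mp φ N g) env ce) {TT : List (List Ts)}
    {us : List (ℕ × ℕ)} {k : List (ℕ × ℕ) → Fa} (hu : Us φ N g us) (hk : ∀ us, Us φ N g us → Sem E φ N (k us)) :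
    Sem E φ N (rfs m fs (llen W) env ce TT us k) := by
  induction TT generalizing us k with
  | nil => exact hk us hu
  | cons T TT ih =>
    cases us with
    | nil => trivial
    | cons u r =>
      refine C.rts (show Sem E φ N .tt from trivial) fun T' q => ?_
      rw [force_eq]
      obtain ⟨⟨l, c, c1, c2⟩, hr⟩ := List.forall_mem_cons.1 hu
      have s := filM_spec (f := fun c => tst m (c :: ce) T') (C.pw l)
      exact ih hr fun us hs => hk _ (List.forall_mem_cons.2
        ⟨⟨C.tw.1.sz_eq ▸ s.1, c, (s.2 c).2 ⟨c1, q g _ (.cons c2 h)⟩, c2⟩, hs⟩)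

theorem Cx.chn {Q : ℕ → Prop} {gs : List (ℕ × ℕ)} (hg : ∀ g ∈ gs, g.1 < N)
    (hq : ∀ g ∈ gs, ∀ y x, y < N → x < N → φ g.1 * φ y = φ x * φ g.1 → Q x → Q y) {ch : List T3} {R : ℕ} {k : ℕ → Bool}
    (hR : ∀ x, R.testBit x = true → x < N ∧ Q x) (h : chn N m gs ch R k = true) :
    ∃ R, (∀ x, R.testBit x = true → x < N ∧ Q x) ∧ k R = true := by
  induction ch generalizing R with
  | nil => exact ⟨R, hR, h⟩
  | cons c ch ih =>
    change force (L33.nth0 gs c.2.1) (fun g => an (blt c.1 N) (an (tb R c.2.2) (an (Nat.beq (m g c.1) (m c.2.2 g))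
      (force (Nat.lor (Nat.shiftLeft 1 c.1) R) fun R' => L33.chn N m gs ch R' k)))) = true at h
    simp only [force_eq, an_iff, blt_iff, beq_iff, tb_iff] at h
    obtain ⟨h1, h2, h3, h4⟩ := h
    refine ih (fun x hx => (bit_lor.1 hx).elim (fun e => ?_) (hR x)) h4
    obtain rfl := bit_one.1 e
    obtain ⟨l, q⟩ := hR _ h2
    refine ⟨h1, (nth_mem_or (0, 0) gs c.2.1).elim (fun k => hq _ k _ _ h1 l ((C.eq (hg _ k) h1 l (hg _ k)).1 h3) q) fun k => ?_⟩
    rw [show nth0 gs c.2.1 = 0 from congrArg Prod.fst k, C.eq C.pos h1 l C.pos, C.z, one_mul,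
      mul_one] at h3
    exact C.inj _ h1 _ l h3 ▸ q

theorem Cx.fl [Finite G] {g : G} : Fl φ N N g ↔ g ∉ C.P ∧ g ∈ 𝐍(C.P) ∧ g * g ∈ C.P :=
  ⟨fun h => ⟨fun ⟨a, p, q⟩ => (h.2.1 a p).1 q, mem_normalizer_of_cj_le (cj_le_iff_forall.2 (by
    rintro _ ⟨a, ha, rfl⟩
    exact (h.2.1 a ha).2.imp fun b r => ⟨r.1, r.2.symm⟩)), h.2.2.resolve_left C.pos.ne'⟩,
  fun h => ⟨le_rfl, fun a ha => ⟨fun e => h.1 ⟨a, ha, e⟩, (conj_mem_of_mem_normalizer h.2.1 (C.mem ha)).imp
    fun b r => ⟨r.1, r.2.symm⟩⟩, .inr h.2.2⟩⟩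

theorem Cx.flm [Finite G] {g : G} {q p : ℕ} (h : q = 0 ∨ q = N) (k : Fl φ N q g) (l : p < N) : Fl φ N q (φ p * g) := by
  rcases h with rfl | rfl
  · exact .z
  obtain ⟨a, b, c⟩ := C.fl.1 k
  have y := C.mem l
  exact C.fl.2 ⟨mt (mul_mem_cancel_left y).1 a, mul_mem (le_normalizer y) b, by
    convert mul_mem (mul_mem y (conj_mem_of_mem_normalizer b y)) c using 1; group⟩

end

noncomputable def St.inv (i : ℕ) (kn : List T3) : St.{u} where
  run W m fs := force (sz W) fun N => fw (nf fs i).kn fun k0 => f3 kn fun kn => gd (lall (fun r =>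
    an (ivK N m r.1 r.2.1) (an (blt r.2.2 N) (sift m k0 r.2.2 (Nat.beq r.1)))) kn) (.rc kn [] (nat_lit 0))
  ok C := by
    simp only [force_eq, fw_eq, f3_eq]
    refine gd_ok fun h => ?_
    obtain ⟨g, hg⟩ := C.kn i
    refine ⟨g⁻¹, fun r hr => ?_, fun _ h => (nomatch h), .z⟩
    obtain ⟨h1, h2⟩ := an_iff.1 (lall_iff.1 h r hr)
    obtain ⟨x, p, q⟩ := (C.sift hg (blt_iff.1 (an_iff.1 h2).1) (an_iff.1 h2).2).2
    obtain rfl := beq_iff.1 q
    exact ⟨⟨p.2.1, p.1, by rw [← p.2.2]; group⟩, (C.iv h1).2⟩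

noncomputable def St.comp (ops kn : List T3) : St.{u} where
  run W m fs := force (sz W) fun N => rsv N m fs .tt ops fun os => f3 kn fun kn => gd (lall (fun r =>
    an (ivK N m r.1 r.2.1) (rop m os r.1 (Nat.beq r.2.2))) kn) (.rc kn [] (nat_lit 0))
  ok C := by
    simp only [force_eq, f3_eq]
    refine C.rsvF fun os g hg => gd_ok fun h => ?_
    refine ⟨g, fun r hr => ?_, fun _ h => (nomatch h), .z⟩
    obtain ⟨h1, h2⟩ := an_iff.1 (lall_iff.1 h r hr)
    exact ⟨hg.eq (C.iv h1).1 h2, (C.iv h1).2⟩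

noncomputable def St.nfK (ops : List T3) (j : ℕ) : St.{u} where
  run W m fs := match nf fs j with
    | .nf a M => rsv (sz W) m fs .tt ops fun os => gd (rop m os a (tb M)) .dn
    | _ => .tt
  ok C := by
    have s := C.nth j
    split
    swap
    · trivial
    rename_i a M e
    rw [e] at s
    refine C.rsvF fun os g hg => gd_ok fun h => ?_
    obtain ⟨x, p, q⟩ := hg s.1 h
    exact (s.2.2 x (tb_iff.1 q) p.conj).elim

noncomputable def St.nfD (rv : Bool) (a : ℕ) (pa : List T3) (j : ℕ) (cs : List (ℕ × List T3)) : St.{u} where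
  run W m fs := force (sz W) fun N => match nf fs j with
    | .nf b M => gd (an (blt a N) (an (rsv N m fs false pa fun os => rop m os a (Bool.rec (Nat.beq b) (tb M) rv))
        (lall (fun c => an (blt c.1 N) (rsv N m fs false c.2 fun os => rop m os c.1 (Bool.rec (tb M) (Nat.beq b) rv))) cs)))
        (force (msk (lmap Prod.fst cs)) (.nf a))
    | _ => .tt
  ok {G} _ _ E W m fs xs C := by
    have s := C.nth j
    rw [force_eq]
    split
    swap
    · trivial
    rename_i b M e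
    rw [e] at s
    refine gd_ok fun h => ?_
    simp only [force_eq, an_iff, blt_iff, lall_iff] at h ⊢
    have k : ∀ {x o f}, x < sz W → (rsv (sz W) m fs false o fun os => rop m os x f) = true →
        ∃ y, IsConj (ev W xs x) (ev W xs y) ∧ f y = true := fun hx => C.rsv (P := fun b => b = true → _) (by simp)
      fun os g hg q => (hg hx q).imp fun y r => ⟨r.1.conj, r.2⟩
    have l : ∀ {x}, (msk (lmap Prod.fst cs)).testBit x = true → ∃ c ∈ cs, c.1 = x := fun q => by
      rwa [bit_msk, lmap_eq, List.mem_map] at q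
    refine ⟨h.1, lt_of_bits fun x q => ?_, fun x q r => ?_⟩ <;> obtain ⟨c, hc, rfl⟩ := l q
    · exact (h.2.2 c hc).1
    obtain ⟨y, p1, p2⟩ := k h.1 h.2.1
    obtain ⟨z, p3, p4⟩ := k (h.2.2 c hc).1 (h.2.2 c hc).2
    cases rv
    · exact s.2.2 z (tb_iff.1 p4) (beq_iff.1 p2 ▸ p1.symm.trans (r.trans p3))
    · exact s.2.2 y (tb_iff.1 p2) (beq_iff.1 p4 ▸ p3.symm.trans (r.symm.trans p1))

noncomputable def St.nfU (i j : ℕ) : St.{u} where
  run _ _ fs := match nf fs i, nf fs j with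
    | .nf a M, .nf b M' => gd (Nat.beq a b) (force (Nat.lor M M') (.nf a))
    | _, _ => .tt
  ok C := by
    have s := C.nth i
    have s' := C.nth j
    split
    swap
    · trivial
    rename_i a M b M' e e'
    rw [e] at s
    rw [e'] at s'
    refine gd_ok fun h => ?_
    obtain rfl := beq_iff.1 h
    rw [force_eq]
    exact ⟨s.1, lt_of_bits fun x q => (bit_lor.1 q).elim (lt_of_bit s.2.1) (lt_of_bit s'.2.1),
      fun x q => (bit_lor.1 q).elim (s.2.2 x) (s'.2.2 x)⟩

noncomputable def St.cenU (j : ℕ) (ds : List ℕ) (ws : List (List ℕ)) (e2 : List ℕ) : St.{u} where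
  run W m fs := force (sz W) fun N => match nf fs j with
    | .cen g els => fL ds fun ds => fL e2 fun e2 => gd (an (lall (blt · N) ds) (an (lall (blt · N) e2)
        (an (al2 (fun a w => Nat.beq a (prd m ds w)) g ws)
        (lall (fun e => orr (lany (Nat.beq e) e2) (nt (lall (cm m e) ds))) els)))) (.cen ds e2)
    | _ => .tt
  ok C := by
    have s := C.nth j
    rw [force_eq]
    split
    swap
    · trivial
    rename_i g els e
    rw [e] at s
    rw [fL_eq, fL_eq]
    refine gd_ok fun h => ?_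
    simp only [an_iff, blt_iff, lall_iff, al2_iff, orr_iff, nt_iff, lany_iff, beq_iff] at h
    obtain ⟨h1, h2, h3, h4⟩ := h
    have k := fun K (q : ∀ a ∈ ds, ev _ _ a ∈ K) => Cl.le (l := g) fun a ha => by
      obtain ⟨w, -, rfl⟩ := f2_left h3 ha
      exact (C.prdK (fun a ha => ⟨h1 a ha, q a ha⟩) w).2
    refine ⟨h1, h2, fun x p q => ?_⟩
    obtain ⟨⟨e, he, rfl⟩, r⟩ := s.2.2 x p fun a ha => mem_centralizer_singleton_iff.1
      (k 𝐜(x) (fun a ha => mem_centralizer_singleton_iff.2 (q a ha)) (Cl.mem ha))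
    obtain ⟨_, r1, rfl⟩ := (h4 e he).resolve_right fun n => n fun d hd => (C.cm (s.2.1 e he) (h1 d hd)).2 (q d hd).symm
    exact ⟨⟨e, r1, rfl⟩, k _ (fun a ha => Cl.mem ha) r⟩

noncomputable def St.cenC (j : ℕ) (ops : List T3) (g2 e2 : List ℕ) : St.{u} where
  run W m fs := match nf fs j with
    | .cen g els => rsv (sz W) m fs .tt ops fun os => fL g2 fun g2 => fL e2 fun e2 => gd
        (an (al2 (fun a b => rop m os a (Nat.beq b)) g g2) (al2 (fun a b => rop m os a (Nat.beq b)) els e2)) (.cen g2 e2)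
    | _ => .tt
  ok C := by
    have s := C.nth j
    split
    swap
    · trivial
    rename_i l els e
    rw [e] at s
    refine C.rsvF fun os g hg => ?_
    rw [fL_eq, fL_eq]
    refine gd_ok fun h => ?_
    have h1 := f2_imp (al2_iff.1 (an_iff.1 h).1) fun a ha b _ q => hg.eq (s.1 a ha) q
    have h2 := f2_imp (al2_iff.1 (an_iff.1 h).2) fun a ha b _ q => hg.eq (s.2.1 a ha) q
    refine ⟨fun b hb => (f2_right h1 hb).elim fun a q => q.2.2.1, fun b hb => (f2_right h2 hb).elim fun a q => q.2.2.1,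
      fun x p q => ?_⟩
    obtain ⟨⟨e, he, r0⟩, r⟩ := s.2.2 (g⁻¹ * x * g) (p.imp fun k p => by
      rw [← inv_inv g, inv_inv g⁻¹, conj_pow, p]; group) fun a ha => by
      obtain ⟨b, hb, r⟩ := f2_left h1 ha
      have := congrArg (g⁻¹ * · * g) (q b hb)
      rw [← r.2.2] at this
      simpa [mul_assoc] using this
    obtain ⟨b, hb, r1⟩ := f2_left h2 he
    refine ⟨⟨b, hb, by rw [← r1.2.2, r0]; group⟩, ?_⟩
    have := Cl.le (K := cj[g⁻¹] (Cl _ g2)) (fun a ha => by
      obtain ⟨b, hb, r⟩ := f2_left h1 ha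
      exact mem_cj.2 (by rw [inv_inv, r.2.2]; exact Cl.mem hb)) r
    rw [mem_cj] at this
    simpa [mul_assoc] using this

noncomputable def St.ref (i : ℕ) (TT : List (List Ts)) : St.{u} where
  run W m fs := match nf fs i with
    | .rc kn us q => force (llen W) fun d => fL (dm kn) fun env => fL (im kn) fun ce => rfs m fs d env ce TT us (.rc kn · q)
    | _ => .tt
  ok C := by
    have s := C.nth i
    split
    swap
    · trivial
    rename_i kn us q e
    rw [e] at s
    obtain ⟨g, s1, s2, s3⟩ := s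
    rw [force_eq, fL_eq, fL_eq]
    exact C.rfs s1.f2 s2 fun us h => ⟨g, s1, h, s3⟩

noncomputable def St.wl (i : ℕ) (gs : List (ℕ × ℕ)) (ch : List T3) (M : ℕ) : St.{u} where
  run W m fs := force (sz W) fun N => force (llen W) fun d => force (full N) fun F => match nf fs i with
    | .rc kn (u :: us) q => f2 gs fun gs => force M fun M => gd (an (orr (Nat.beq q (nat_lit 0)) (Nat.beq q N))
        (an (Nat.ble M F) (an (lall (fun g => an (ivK N m g.1 g.2)
        (an (lall (fun r => cm m g.1 r.2.2) kn) (lall (fun v => orr (Nat.beq v.2 F)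
          (allM (fun x => tb v.2 (force (m g.1 x) fun y => m y g.2)) d v.2)) us))) gs) (chn N m gs ch M (subM u.2)))))
        (.rc kn ((u.1, M) :: us) q)
    | _ => .tt
  ok {G} _ _ E W m fs xs C := by
    have s := C.nth i
    rw [force_eq, force_eq, force_eq]
    split
    swap
    · trivial
    rename_i kn u us q0 e
    rw [e] at s
    obtain ⟨g, s1, s2, s4⟩ := s
    rw [f2_eq, force_eq]
    refine gd_ok fun h => ?_
    simp only [an_iff, lall_iff, orr_iff, beq_iff, ble_iff, force_eq] at h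
    obtain ⟨h0, h1, h2, h3⟩ := h
    have l := h1.trans_lt (full_lt _)
    obtain ⟨⟨-, c, c1, c2⟩, s3⟩ := List.forall_mem_cons.1 s2
    obtain ⟨R, r1, r2⟩ := C.chn (Q := fun y => ∀ g, Kn (ev W xs) (sz W) g kn → Us (ev W xs) (sz W) g us →
        Mp (ev W xs) (sz W) g u.1 y → Fl (ev W xs) (sz W) q0 g → Sem E (ev W xs) (sz W) (.rc kn ((u.1, M) :: us) q0))
      (fun g hg => (C.iv (h2 g hg).1).1) (fun p hp y x hy hx e q g k1 k2 k3 k4 => by
        obtain ⟨⟨p1, p2, p3⟩, p4, p5⟩ := And.imp_left C.iv (h2 p hp)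
        have k : ∀ {a b c}, Mp (ev W xs) (sz W) g a b → c < sz W → ev W xs p.1 * ev W xs b = ev W xs c * ev W xs p.1 →
            Mp (ev W xs) (sz W) (ev W xs p.1 * g) a c := fun q l e => ⟨q.1, l, by
          rw [← mul_inv_eq_of_eq_mul e, ← q.2.2]; group⟩
        refine q _ (fun r hr => ⟨k (k1 r hr).1 (k1 r hr).1.2.1 ((C.cm p1 (k1 r hr).1.2.1).1 (p4 r hr)), (k1 r hr).2⟩)
          (fun v hv => ⟨(k2 v hv).1, ?_⟩) (k k3 hx e) (C.flm h0 k4 p1)
        obtain ⟨c, c1, c2⟩ := (k2 v hv).2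
        have l := C.lt (C.lt p1 c2.2.1) p2
        exact ⟨_, (p5 v hv).elim (fun e => e ▸ bit_full.2 l) fun e => tb_iff.1 (allM_spec (C.pw (k2 v hv).1) e c c1),
          k c2 l (by rw [C.mu (C.lt p1 c2.2.1) p2, C.mu p1 c2.2.1, p3, inv_mul_cancel_right])⟩)
      (fun x hx => ⟨lt_of_bit l hx, fun g k1 k2 k3 k4 => ⟨g, k1, List.forall_mem_cons.2 ⟨⟨l, x, hx, k3⟩, k2⟩, k4⟩⟩) h3
    exact (r1 c (subM_spec r2 c1)).2 g s1 s3 c2 s4

end CF.L33
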