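import Cfsg.Agent.L33.D
import Cfsg.Agent.Loc.Mod5
import Cfsg.Agent.Loc.Weak
import Cfsg.Agent.Loc.Core
import Cfsg.Agent.Coprime.PGroup

/-!
The steps that use Sylow theory.
-/

set_option autoImplicit false
set_option linter.unusedSectionVars false

namespace CF.L33
open CF.HSo CF.Comp Subgroup CF.Loc
open scoped commutatorElement

universe u

noncomputable def imgM (f : ℕ → ℕ) (d M : ℕ) : ℕ :=
  tre (nat_lit 0) (fun a => force (f a) (Nat.shiftLeft (nat_lit 1))) (fun _ x y => Nat.lor x y) d (nat_lit 0) M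

theorem imgM_spec {f : ℕ → ℕ} {d M : ℕ} (h : M < 2 ^ 2 ^ d) :
    ∀ x, (imgM f d M).testBit x = true → ∃ a, M.testBit a = true ∧ f a = x := by
  have := tre_ind (z := 0) (lf := fun a => force (f a) (Nat.shiftLeft 1)) (nd := fun _ x y => Nat.lor x y)
    (fun _ a M r => ∀ x, r.testBit x = true → ∃ i, M.testBit i = true ∧ f (a + i) = x) (by simp)
    (fun a x hx => ⟨0, rfl, by rw [force_eq, bit_one] at hx; exact hx.symm⟩) (fun s a lo hi x y l _ p q z hz => by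
      rcases bit_lor.1 hz with k | k
      · obtain ⟨i, i1, i2⟩ := p z k
        exact ⟨i, by rwa [tbm l, if_pos (lt_of_bit l i1)], i2⟩
      · obtain ⟨i, i1, i2⟩ := q z k
        exact ⟨s + i, by rwa [tbm l, if_neg (by omega), Nat.add_sub_cancel_left], by rwa [← add_assoc]⟩) d 0 M h
  simp only [zero_add] at this
  exact this

/-- products of the elements of a list -/
noncomputable def spn (m : Op2) (d : ℕ) (l : List ℕ) : ℕ :=
  List.rec (motive := fun _ => ℕ) (nat_lit 1) (fun x _ ih => force ih fun R => force x fun x =>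
    Nat.lor R (imgM (fun a => m a x) d R)) l

noncomputable def isS (fs : List Fa) (j N : ℕ) : Bool := match nf fs j with
  | .syl n => Nat.beq n N
  | _ => false

noncomputable def zen (m : Op2) (W : List Lv) (a : ℕ) : Bool := lall (fun L : Lv => cm m a L.top) W

noncomputable def unk (N : ℕ) (ys : List ℕ) : List (ℕ × ℕ) := lmap (fun y => (y, full N)) ys

variable {G : Type u} [Group G] [Finite G]

theorem c1 {x y : G} : x ∈ 𝐜(y) ↔ x * y = y * x := mem_centralizer_singleton_iff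

theorem cj_c1 (g x : G) : cj[g] 𝐜(x) = 𝐜(g * x * g⁻¹) := cj_centralizer_singleton g x

theorem mem_cm {g x y : G} {K : Subgroup G} (e : g * x * g⁻¹ = y) (h : y ∈ K) :
    x ∈ K.comap (MulAut.conj g).toMonoidHom := by subst e; exact h

/-- an element normalizing `B` and centralizing a centric subgroup acts as a `2`-element -/
theorem act_two {B Q : Subgroup G} (p : IsPGroup 2 B) (l : Q ≤ B) (c : B ⊓ 𝐂(Q) ≤ Q) {h : G} (n : h ∈ 𝐍(B))
    (k : h ∈ 𝐂(Q)) : ∃ x ∈ 𝐂(Q), (∃ k, x ^ 2 ^ k = 1) ∧ ∀ b ∈ B, h * b * h⁻¹ = x * b * x⁻¹ := by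
  obtain ⟨a, b, ha, hb, ⟨j, o⟩, cb, e⟩ := exists_p_part (p := 2) (isOfFinOrder_of_finite h)
  have := p.isNilpotent
  obtain ⟨i, hi⟩ := p.exists_card_eq
  have q : Q ≤ 𝐂(zpowers b) := le_centralizer_iff.1 (zpowers_le.2 (zpowers_le.2 k hb))
  have := CF.Coprime.le_centralizer_of_isNilpotent (zpowers b) B Q (zpowers_le.2 (zpowers_le.2 n hb))
    (by rw [Nat.card_zpowers, hi]; exact cb.pow_right i) l q (c.trans q) (mem_zpowers b)
  refine ⟨a, zpowers_le.2 k ha, ⟨j, o ▸ pow_orderOf_eq_one a⟩, fun x hx => ?_⟩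
  rw [e, ← conj_eq_of_mem_centralizer this hx]
  simp only [conj_eq_of_mem_centralizer this hx]
  nth_rewrite 2 [← conj_eq_of_mem_centralizer this hx]
  group

/-- a central Sylow subgroup contains all `2`-elements -/
theorem two_mem {X C : Subgroup G} (s : IsSyl 2 X C) (z : X ≤ 𝐂(C)) {x : G} (hx : x ∈ C) (k : ∃ k, x ^ 2 ^ k = 1) :
    x ∈ X := by
  obtain ⟨k, hk⟩ := k
  obtain ⟨g, hg, l⟩ := s.exists_cj_le (isPGroup_zpowers hk) (zpowers_le.2 hx)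
  have y := l (conj_mem_cj g (mem_zpowers x))
  have := mem_centralizer_iff'.1 (z y) g hg
  rwa [mul_left_cancel (show g * (g * x * g⁻¹) = g * x by rw [this]; group)] at y

theorem grow_lem {P Z : Subgroup G} (p : IsPGroup 2 P) (ce : IsSyl 2 (P ⊓ Z) Z) (x : G) :
    ∃ c ∈ Z, ∀ a ∈ P, ∀ b ∈ P ⊓ 𝐍(Z), b⁻¹ * (x * a * x⁻¹) ∈ Z → c * x * a * (c * x)⁻¹ * b⁻¹ ∈ P ⊓ Z := by
  have sy : IsSyl 2 (P ⊓ 𝐍(Z)) (Z ⊔ P ⊓ 𝐍(Z)) :=
    ⟨le_sup_right, p.to_inf_left, fun R q l1 l2 => le_antisymm (fun y hy => by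
      obtain ⟨a, ha, b, hb, rfl⟩ := (mem_sup_of_le_normalizer inf_le_right).1 (l2 hy)
      exact mul_mem ⟨((ce.eq_of_le (q.to_inf_left (K := Z)) (le_inf ((inf_le_inf_left P le_normalizer).trans l1) inf_le_right)
        inf_le_right).le ⟨(mul_mem_cancel_right (l1 hb)).1 hy, ha⟩).1, le_normalizer ha⟩ hb) l1⟩
  obtain ⟨w, hw, l⟩ := sy.exists_cj_le (Q := cj[x] P ⊓ (Z ⊔ P ⊓ 𝐍(Z))) (isPGroup_cj x p).to_inf_left inf_le_right
  rw [sup_comm] at hw
  obtain ⟨u, hu, c, hc, rfl⟩ := (mem_sup_of_le_normalizer' inf_le_right).1 hw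
  refine ⟨c, hc, fun a ha b hb q => mem_inf.2 ⟨mul_mem ?_ (inv_mem (mem_inf.1 hb).1), ?_⟩⟩
  · have k : x * a * x⁻¹ ∈ Z ⊔ P ⊓ 𝐍(Z) := (mul_mem_cancel_left (inv_mem (mem_sup_right hb))).1 (mem_sup_left q)
    have : u * c * (x * a * x⁻¹) * (u * c)⁻¹ ∈ P := (l (conj_mem_cj _ ⟨conj_mem_cj x ha, k⟩)).1
    have := mul_mem (mul_mem (inv_mem (mem_inf.1 hu).1) this) (mem_inf.1 hu).1
    rwa [show u⁻¹ * (u * c * (x * a * x⁻¹) * (u * c)⁻¹) * u = c * x * a * (c * x)⁻¹ by group] at this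
  · have := mul_mem hc (conj_mem_of_mem_normalizer hb.2 (mul_mem q (inv_mem hc)))
    rwa [show c * (b * (b⁻¹ * (x * a * x⁻¹) * c⁻¹) * b⁻¹) = c * x * a * (c * x)⁻¹ * b⁻¹ by group] at this

section
variable {E : Env G} {W : List Lv} {m : Op2} {fs : List Fa} {xs : List G} (C : Cx E W m fs xs)

local notation "φ" => ev W xs
local notation "N" => sz W

include C

theorem Cx.spn {K : Subgroup G} {l : List ℕ} (h : ∀ a ∈ l, a < N ∧ φ a ∈ K) :
    spn m (llen W) l < 2 ^ N ∧ ∀ x, (spn m (llen W) l).testBit x = true → φ x ∈ K := by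
  suffices ∀ x, (L33.spn m (llen W) l).testBit x = true → x < N ∧ φ x ∈ K from
    ⟨lt_of_bits fun x q => (this x q).1, fun x q => (this x q).2⟩
  induction l with
  | nil => exact fun x q => Nat.testBit_one_eq_true_iff_self_eq_zero.1 q ▸ ⟨C.pos, C.z ▸ one_mem K⟩
  | cons a l ih =>
    have ih := ih fun b hb => h b (List.mem_cons_of_mem _ hb)
    obtain ⟨a1, a2⟩ := h a List.mem_cons_self
    intro x q
    change (force (L33.spn m (llen W) l) fun R => force a fun x => Nat.lor R (imgM (fun a => m a x) (llen W) R)).testBit x = true at q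
    rw [force_eq, force_eq] at q
    refine (bit_lor.1 q).elim (ih x) fun q => ?_
    obtain ⟨b, b1, rfl⟩ := imgM_spec (C.pw (lt_of_bits fun x q => (ih x q).1)) x q
    exact ⟨C.lt (ih b b1).1 a1, C.mu (ih b b1).1 a1 ▸ mul_mem (ih b b1).2 a2⟩

theorem Cx.cnt_le {K : Subgroup G} {M : ℕ} (l : M < 2 ^ N) (h : ∀ x, M.testBit x = true → φ x ∈ K) :
    cntM (llen W) M ≤ Nat.card K := by
  rw [C.cnt l, ← Nat.card_eq_finsetCard]
  exact Nat.card_le_card_of_injective (fun a : bits N M => (⟨φ a, h _ (mem_bits.1 a.2).2⟩ : K)) fun a b e =>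
    Subtype.ext (C.inj _ (mem_bits.1 a.2).1 _ (mem_bits.1 b.2).1 (congrArg Subtype.val e))

theorem Cx.spn_le {K : Subgroup G} {l : List ℕ} (h : ∀ a ∈ l, a < N ∧ φ a ∈ K) :
    cntM (llen W) (L33.spn m (llen W) l) ≤ Nat.card K := C.cnt_le (C.spn h).1 (C.spn h).2

theorem Cx.isS {j : ℕ} (h : isS fs j N = true) : IsSyl 2 C.P ⊤ := by
  have s := C.nth j
  unfold L33.isS at h
  split at h
  · rename_i n e
    rw [e, beq_iff.1 h] at s
    obtain ⟨-, S, s1, s2⟩ := s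
    exact C.eqP s1 ▸ s2
  · cases h

theorem Cx.le {K : Subgroup G} (h : ∀ a ∈ tops W, φ a ∈ K) : C.P ≤ K := by
  rintro _ ⟨a, ha, rfl⟩
  exact C.ind (Q := (· ∈ K)) (one_mem K) (fun _ _ => mul_mem) h a ha

theorem Cx.zen {a : ℕ} (ha : a < N) (h : zen m W a = true) : C.P ≤ 𝐜(φ a) := C.le fun b hb => by
  have l := C.top_lt hb
  rw [tops, lmap_eq] at hb
  obtain ⟨L, hL, rfl⟩ := List.mem_map.1 hb
  exact c1.2 ((C.cm ha l).1 (lall_iff.1 h L hL)).symm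

theorem Cx.clP {l : List ℕ} (h : ∀ a ∈ l, a < N) : Cl φ l ≤ C.P := Cl.le fun a ha => C.mem (h a ha)

theorem Cx.unk {g : G} {ys : List ℕ} (h : ∀ y ∈ ys, y < N ∧ g * φ y * g⁻¹ ∈ C.P) : Us φ N g (unk N ys) := fun r hr => by
  rw [L33.unk, lmap_eq] at hr
  obtain ⟨y, hy, rfl⟩ := List.mem_map.1 hr
  obtain ⟨l, c, c1, c2⟩ := h y hy
  exact ⟨full_lt _, c, bit_full.2 c1, l, c1, c2.symm⟩

omit C in
theorem cen_c {ψ : ℕ → G} {l : List ℕ} {x : G} : x ∈ 𝐂(Cl ψ l) ↔ ∀ a ∈ l, ψ a * x = x * ψ a :=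
  ⟨fun h _ ha => mem_centralizer_iff'.1 h _ (Cl.mem ha), fun h => mem_centralizer_iff'.2 fun _ hy =>
    c1.1 (Cl.le (K := 𝐜(x)) (fun a ha => c1.2 (h a ha)) hy)⟩

omit C in
theorem cen_act {ψ : ℕ → G} {n : ℕ} {g els : List ℕ} (s : Sem E ψ n (.cen g els)) {B : Subgroup G} (p : IsPGroup 2 B)
    (l : Cl ψ g ≤ B) {h : G} (nB : h ∈ 𝐍(B)) (k : h ∈ 𝐂(Cl ψ g)) :
    ∃ e ∈ els, ∀ b ∈ B, h * b * h⁻¹ = ψ e * b * (ψ e)⁻¹ := by
  obtain ⟨x, x1, x2, x3⟩ := act_two p l (fun x hx => (s.2.2 x (isPGroup_iff_forall.1 p x hx.1) (cen_c.1 hx.2)).2) nB k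
  obtain ⟨e, he, rfl⟩ := (s.2.2 x x2 (cen_c.1 x1)).1
  exact ⟨e, he, x3⟩

theorem Cx.tsy {t M k : ℕ} (s : Sem E φ N (.tsy t M k)) (ht : M.testBit t = true ∨ True) :
    Sb φ (C.P ⊓ 𝐜(φ t)) (M.testBit · = true) ∧ IsSyl 2 (C.P ⊓ 𝐜(φ t)) 𝐜(φ t) ∧ Nat.card (C.P ⊓ 𝐜(φ t) :) = k := by
  obtain ⟨-, l, S, s1, s2, s3⟩ := s
  have := s2.eq_of_le (Q := C.P ⊓ 𝐜(φ t)) C.pg.to_inf_left (le_inf (fun x hx => by
    obtain ⟨a, ha, rfl⟩ := (s1 x).1 hx
    exact C.mem (lt_of_bit l ha)) s2.le) inf_le_right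
  exact this ▸ ⟨s1, s2, s3⟩

theorem Cx.grow {kn tr : List T3} {els : List ℕ} {x : G} (hx : Kn φ N x kn)
    (sy : IsSyl 2 (C.P ⊓ 𝐂(Cl φ (im kn))) 𝐂(Cl φ (im kn))) (l0 : ∀ e ∈ els, e < N)
    (ce : ∀ y ∈ C.P ⊓ 𝐂(Cl φ (im kn)), ∃ e ∈ els, φ e = y) (h : lall (fun r => an (ivK N m r.1 r.2.1)
      (an (blt r.2.2 N) (lall (fun s => force (m r.1 s.1) fun x => force (m x r.2.1) fun y => L33.sift m kn y fun z =>
        Nat.beq (m r.2.2 s.2.2) (m z r.2.2)) kn))) tr = true) :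
    Sem E φ N (f2 (lmap (fun r => (r.1, msk (lmap (fun e => m e r.2.2) els))) tr) (.rc kn · (nat_lit 0))) := by
  simp only [an_iff, lall_iff, blt_iff, force_eq] at h
  obtain ⟨B, hB⟩ : ∃ B, B = Cl φ (im kn) := ⟨_, rfl⟩
  rw [← hB] at sy ce
  have mB : ∀ r ∈ kn, φ r.2.2 ∈ B := fun r hr => hB ▸ Cl.mem (mem_im.2 ⟨r, hr, rfl⟩)
  have t1 : ∀ r ∈ tr, ∀ s ∈ kn, ∃ y ∈ B, x * φ r.1 * x⁻¹ * φ s.2.2 * (x * φ r.1 * x⁻¹)⁻¹ = y ∧
      φ r.2.2 * φ s.2.2 * (φ r.2.2)⁻¹ = y := fun r hr s hs => by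
    obtain ⟨⟨a1, a2, a3⟩, b, c⟩ := And.imp_left C.iv (h r hr)
    have l := (hx s hs).1
    obtain ⟨z, y, p, q⟩ := C.sift hx (C.lt (C.lt a1 l.1) a2) (c s hs)
    refine ⟨_, p.2.2 ▸ z (B.comap (MulAut.conj x).toMonoidHom) fun r hr => mem_cm (hx r hr).1.2.2 (mB r hr), ?_,
      (mul_inv_eq_of_eq_mul ((C.eq b l.2.1 p.2.1 b).1 (beq_iff.1 q)))⟩
    rw [← p.2.2, C.mu (C.lt a1 l.1) a2, C.mu a1 l.1, a3, ← l.2.2]; group
  have t2 : ∀ r ∈ tr, φ r.2.2 ∈ C.P ⊓ 𝐍(𝐂(B)) := fun r hr => ⟨C.mem (h r hr).2.1,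
    normalizer_le_normalizer_centralizer _ (mem_normalizer_of_cj_le (map_le_iff_le_comap.2 (hB.trans_le (Cl.le fun a ha => by
      obtain ⟨s, hs, rfl⟩ := mem_im.1 ha
      obtain ⟨y, hy, -, q⟩ := t1 r hr s hs
      exact mem_cm q hy))))⟩
  have t3 : ∀ r ∈ tr, (φ r.2.2)⁻¹ * (x * φ r.1 * x⁻¹) ∈ 𝐂(B) := fun r hr => hB ▸ cen_c.2 fun a ha => by
    obtain ⟨s, hs, rfl⟩ := mem_im.1 ha
    obtain ⟨y, -, p, q⟩ := t1 r hr s hs
    generalize x * φ r.1 * x⁻¹ = w at p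
    rw [mul_assoc _ w, mul_inv_eq_iff_eq_mul.1 p, ← q]
    group
  obtain ⟨c, hc, l⟩ := grow_lem C.pg sy x
  rw [f2_eq, lmap_eq]
  refine ⟨c * x, fun r hr => ⟨⟨(hx r hr).1.1, (hx r hr).1.2.1, ?_⟩, (hx r hr).2⟩, List.forall_mem_map.2 fun r hr => ?_, .z⟩
  · rw [← conj_eq_of_mem_centralizer hc (mB r hr), ← (hx r hr).1.2.2]; group
  have a1 := (C.iv (h r hr).1).1
  have b1 := (h r hr).2.1
  obtain ⟨e, he, q⟩ := ce _ (l _ (C.mem a1) _ (t2 r hr) (t3 r hr))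
  have e1 := l0 e he
  refine ⟨lt_of_bits fun i q => ?_, _, bit_msk.2 (by rw [lmap_eq]; exact List.mem_map_of_mem he), a1, C.lt e1 b1, ?_⟩
  · rw [bit_msk, lmap_eq] at q
    obtain ⟨e, he, rfl⟩ := List.mem_map.1 q
    exact C.lt (l0 e he) b1
  · rw [C.mu e1 b1, q, inv_mul_cancel_right]

end

noncomputable def St.cenK (j i : ℕ) : St.{u} where
  run _ m fs := match nf fs j with
    | .cen g els => fw (nf fs i).kn fun kn => gd (an (lall (fun a => sift m kn a (Nat.beq a)) g)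
        (an (lall (fun r => sift m kn r.2.2 fun _ => true) kn)
          (lall (fun e => lany (fun r => nt (Nat.beq (m e r.1) (m r.2.2 e))) kn) els))) .dn
    | _ => .tt
  ok {G} _ _ E W m fs xs C := by
    have s := C.nth j
    split
    swap
    · trivial
    rename_i g els e
    rw [e] at s
    rw [fw_eq]
    refine gd_ok fun h => ?_
    obtain ⟨x, hx⟩ := C.kn i
    generalize (nf fs i).kn = kn at h hx
    simp only [an_iff, lall_iff, lany_iff, nt_iff, beq_iff] at h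
    have d := fun r (hr : r ∈ kn) => Cl.mem (ψ := ev W xs) (mem_dm.2 ⟨r, hr, rfl⟩)
    obtain ⟨e, he, q⟩ := cen_act s (C.pg.to_le (C.clP fun a ha => (f2_left hx.f2 ha).elim fun _ q => q.2.1))
      (Cl.le fun a ha => (C.sift hx (s.1 a ha) (h.1 a ha)).1 _ d) (h := x)
      (mem_normalizer_of_cj_le (map_le_iff_le_comap.2 (Cl.le fun a ha => by
        obtain ⟨r, hr, rfl⟩ := mem_dm.1 ha
        exact mem_cm (hx r hr).1.2.2 ((C.sift hx (hx r hr).1.2.1 (h.2.1 r hr)).1 _ d))))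
      (cen_c.2 fun a ha => by
        obtain ⟨y, p, q⟩ := (C.sift hx (s.1 a ha) (h.1 a ha)).2
        rw [← beq_iff.1 q] at p
        exact (mul_inv_eq_iff_eq_mul.1 p.2.2).symm)
    obtain ⟨r, hr, n⟩ := h.2.2 e he
    exact (n ((C.eq (s.2.1 e he) (hx r hr).1.1 (hx r hr).1.2.1 (s.2.1 e he)).2
      (mul_inv_eq_iff_eq_mul.1 ((q _ (d r hr)).symm.trans (hx r hr).1.2.2)))).elim

noncomputable def St.xt (j : ℕ) (ops : List T3) (a ai : ℕ) (ys : List ℕ) : St.{u} where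
  run W m fs := force (sz W) fun N => match nf fs j with
    | .tsy t M _ => rsv N m fs .tt ops fun os => gd (an (ivK N m a ai) (an (rop m os a (Nat.beq t))
        (lall (fun y => an (blt y N) (cm m y a)) ys))) (f2 (lmap (fun y => (y, M)) ys) (.rc [(a, ai, t)] · (nat_lit 0)))
    | _ => .tt
  ok {G} _ _ E W m fs xs C := by
    have s := C.nth j
    rw [force_eq]
    split
    swap
    · trivial
    rename_i t M k e
    rw [e] at s
    refine C.rsvF fun os g hg => gd_ok fun h => ?_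
    simp only [an_iff, lall_iff, blt_iff] at h
    obtain ⟨a1, a2⟩ := C.iv h.1
    have p := hg.eq a1 h.2.1
    obtain ⟨s1, s2, -⟩ := C.tsy s (.inr trivial)
    obtain ⟨c, hc, l⟩ := s2.exists_cj_le (isPGroup_cj g (C.pg.to_inf_left (K := 𝐜(ev W xs a))))
      ((cj_mono g inf_le_right).trans (by rw [cj_c1, p.2.2]))
    rw [f2_eq, lmap_eq]
    refine ⟨c * g, List.forall_mem_singleton.2 ⟨⟨a1, s.1, ?_⟩, a2⟩, List.forall_mem_map.2 fun y hy => ⟨s.2.1, ?_⟩, .z⟩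
    · rw [← mul_inv_eq_iff_eq_mul.2 (c1.1 hc), ← p.2.2]; group
    · obtain ⟨z, z1, z2⟩ := (s1 _).1 ((cj_mul c g _).trans_le l (conj_mem_cj _
        ⟨C.mem (h.2.2 y hy).1, c1.2 ((C.cm (h.2.2 y hy).1 a1).1 (h.2.2 y hy).2)⟩))
      exact ⟨z, z1, (h.2.2 y hy).1, lt_of_bit s.2.1 z1, z2.symm⟩

noncomputable def St.grow (i j : ℕ) (tr : List T3) (pre : List ℕ) : St.{u} where
  run W m fs := force (sz W) fun N => match nf fs j with
    | .cen g els => fw (nf fs i).kn fun kn => f3 tr fun tr => gd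
        (an (al2 (fun a b => an (blt b N) (sift m kn b (Nat.beq a))) g pre) (lall (fun r => an (ivK N m r.1 r.2.1)
          (an (blt r.2.2 N) (lall (fun s => force (m r.1 s.1) fun x => force (m x r.2.1) fun y => sift m kn y fun z =>
            Nat.beq (m r.2.2 s.2.2) (m z r.2.2)) kn))) tr))
        (f2 (lmap (fun r => (r.1, msk (lmap (fun e => m e r.2.2) els))) tr) (.rc kn · (nat_lit 0)))
    | .csy g els => fw (nf fs i).kn fun kn => f3 tr fun tr => gd (an (leq g (im kn)) (lall (fun r => an (ivK N m r.1 r.2.1)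
          (an (blt r.2.2 N) (lall (fun s => force (m r.1 s.1) fun x => force (m x r.2.1) fun y => sift m kn y fun z =>
            Nat.beq (m r.2.2 s.2.2) (m z r.2.2)) kn))) tr))
        (f2 (lmap (fun r => (r.1, msk (lmap (fun e => m e r.2.2) els))) tr) (.rc kn · (nat_lit 0)))
    | _ => .tt
  ok {G} _ _ E W m fs xs C := by
    have s := C.nth j
    obtain ⟨x, hx⟩ := C.kn i
    rw [force_eq]
    split
    rotate_left 2
    · trivial
    all_goals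
      rename_i g els e
      rw [e] at s
      rw [fw_eq, f3_eq]
      refine gd_ok fun h => ?_
      obtain ⟨h1, h⟩ := an_iff.1 h
      generalize (nf fs i).kn = kn at h h1 hx
    · have gB : Cl (ev W xs) g ≤ Cl (ev W xs) (im kn) := Cl.le fun a ha => by
        obtain ⟨b, -, b1⟩ := f2_left (al2_iff.1 h1) ha
        obtain ⟨z, y, p, q⟩ := C.sift hx (blt_iff.1 (an_iff.1 b1).1) (an_iff.1 b1).2
        rw [beq_iff.1 q, ← p.2.2]
        exact z ((Cl _ (im kn)).comap (MulAut.conj x).toMonoidHom) fun r hr =>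
          mem_cm (hx r hr).1.2.2 (Cl.mem (mem_im.2 ⟨r, hr, rfl⟩))
      have ce := fun y q hy => (s.2.2 y hy (cen_c.1 (centralizer_anti gB q))).1
      exact C.grow hx ⟨inf_le_right, C.pg.to_inf_left, fun R q l1 l2 => le_antisymm (fun y hy => ⟨(ce y (l2 hy)
        (isPGroup_iff_forall.1 q y hy)).elim fun e r => r.2 ▸ C.mem (s.2.1 e r.1), l2 hy⟩) l1⟩ s.2.1
        (fun y hy => ce y hy.2 (C.two hy.1)) h
    · obtain ⟨-, s1, S, s2, s3⟩ := s
      rw [leq_iff.1 h1] at s3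
      have := s3.eq_of_le (C.pg.to_inf_left (K := 𝐂(Cl (ev W xs) (im kn)))) (le_inf (fun y hy => ((s2 y).1 hy).elim
        fun e r => r.2 ▸ C.mem (s1 e r.1)) s3.le) inf_le_right
      exact C.grow hx (this ▸ s3) s1 (fun y hy => (s2 y).1 (this.le hy)) h

end CF.L33
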