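import Cfsg.Agent.L33.E

/-!
Classes, transfer, centralizer orders.
-/

set_option autoImplicit false
set_option linter.unusedSectionVars false

namespace CF.L33
open CF.HSo CF.Comp Subgroup CF.Loc
open scoped commutatorElement

universe u

variable {G : Type u} [Group G] [Finite G]

def z2 (a : ℕ) : Multiplicative (ZMod 2) := Multiplicative.ofAdd (a : ZMod 2)

theorem hm2 : Hm 2 Nat.xor z2 := ⟨by decide, rfl, by decide +kernel⟩

theorem z2_inj : ∀ a < 2, ∀ b < 2, z2 a = z2 b → a = b := by decide +kernel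

/-- the union of the classes -/
noncomputable def clF (N d : ℕ) (m : Op2) (cs : List (ℕ × List (ℕ × ℕ))) : (ℕ → List (ℕ × ℕ) → Fa) → Fa :=
  List.rec (motive := fun _ => (ℕ → List (ℕ × ℕ) → Fa) → Fa) (fun k => k (nat_lit 1) []) (fun c _ ih k =>
    force c.1 fun r => f2 c.2 fun l => Bool.rec .tt (force (msk (lmap Prod.fst l)) fun M => force (cntM d M) fun n =>
      ih fun R rs => force (Nat.lor M R) fun R' => k R' ((r, n) :: rs))
      (an (blt r N) (lall (fun x => an (blt x.1 N) (an (blt x.2 N) (Nat.beq (m x.2 x.1) (m r x.2)))) l))) cs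

noncomputable def idK (N : ℕ) (m : Op2) (kn : List T3) : Bool := lall (fun r => an (ivK N m r.1 r.2.1) (Nat.beq r.2.2 r.1)) kn

noncomputable def inK (m : Op2) (kn : List T3) (a : ℕ) : Bool := sift m kn a fun _ => true

/-- outside this mask the centralizers have order below `k` -/
noncomputable def czm (fs : List Fa) (j k N : ℕ) : ℕ := match nf fs j with
  | .cz n M l => Bool.rec (full N) M (an (Nat.beq n N) (Nat.ble l k))
  | _ => full N

noncomputable def cmL (N : ℕ) (m : Op2) (a : ℕ) (l : List ℕ) : Bool := lall (fun y => an (blt y N) (cm m y a)) l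

noncomputable def rfc (N d : ℕ) (m : Op2) (fs : List Fa) (l : List (ℕ × List ℕ)) :
    List (ℕ × ℕ) → (List (ℕ × ℕ) → Fa) → Fa :=
  List.rec (motive := fun _ => List (ℕ × ℕ) → (List (ℕ × ℕ) → Fa) → Fa) (fun us k => k us) (fun x _ ih us k =>
    List.rec (motive := fun _ => Fa) .tt (fun u r _ => fL x.2 fun eb => Bool.rec .tt (force (cntM d (spn m d eb)) fun B =>
      force (Nat.land u.2 (czm fs x.1 B N)) fun M => ih r fun r' => k ((u.1, M) :: r')) (cmL N m u.1 eb)) us) l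

theorem bit_land {a b i : ℕ} : (Nat.land a b).testBit i = true ↔ a.testBit i = true ∧ b.testBit i = true := by
  rw [show Nat.land a b = a &&& b from rfl, Nat.testBit_and, Bool.and_eq_true]

section
variable {E : Env G} {W : List Lv} {m : Op2} {fs : List Fa} {xs : List G} (C : Cx E W m fs xs)

local notation "φ" => ev W xs
local notation "N" => sz W

include C

theorem Cx.clF {cs : List (ℕ × List (ℕ × ℕ))} {k : ℕ → List (ℕ × ℕ) → Fa}
    (h : ∀ (R : ℕ) (rs : List (ℕ × ℕ)), (∀ r ∈ rs, r.1 < N ∧ r.2 * Nat.card (C.P ⊓ 𝐜(φ r.1) :) ≤ N) → (∀ c, R.testBit c = true → c = 0 ∨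
      ∃ r ∈ rs, ∃ p < N, φ p * φ c * (φ p)⁻¹ = φ r.1) → Sem E φ N (k R rs)) : Sem E φ N (clF N (llen W) m cs k) := by
  induction cs generalizing k with
  | nil => exact h 1 [] (fun _ h => nomatch h) fun c q => .inl (Nat.testBit_one_eq_true_iff_self_eq_zero.1 q)
  | cons c cs ih =>
    obtain ⟨r, l⟩ := c
    show Sem E φ N (force r fun r => f2 l fun l => Bool.rec .tt (force (msk (lmap Prod.fst l)) fun M =>
      force (cntM (llen W) M) fun n => L33.clF N (llen W) m cs fun R rs => force (Nat.lor M R) fun R' => k R' ((r, n) :: rs))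
      (an (blt r N) (lall (fun x => an (blt x.1 N) (an (blt x.2 N) (Nat.beq (m x.2 x.1) (m r x.2)))) l)))
    rw [force_eq, f2_eq]
    cases e : an (blt r N) (lall (fun x => an (blt x.1 N) (an (blt x.2 N) (Nat.beq (m x.2 x.1) (m r x.2)))) l)
    · trivial
    simp only [an_iff, lall_iff, blt_iff, beq_iff] at e
    have q : ∀ c, (msk (lmap Prod.fst l)).testBit c = true → c < N ∧ ∃ p < N, φ p * φ c * (φ p)⁻¹ = φ r := fun c q => by
      rw [bit_msk, lmap_eq] at q
      obtain ⟨x, hx, rfl⟩ := List.mem_map.1 q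
      obtain ⟨a, b, c⟩ := e.2 x hx
      exact ⟨a, _, b, mul_inv_eq_of_eq_mul ((C.eq b a e.1 b).1 c)⟩
    show Sem E φ N (force _ _)
    simp only [force_eq]
    generalize msk (lmap Prod.fst l) = M at q
    refine ih fun R rs a b => h _ _ (List.forall_mem_cons.2 ⟨⟨e.1, ?_⟩, a⟩) fun c k => (bit_lor.1 k).elim
      (fun k => .inr ⟨_, List.mem_cons_self, (q c k).2⟩) fun k => (b c k).imp_right fun ⟨r, r1, r2⟩ =>
        ⟨r, List.mem_cons_of_mem _ r1, r2⟩
    choose! p p1 p2 using fun c k => (q c k).2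
    rw [C.cnt (lt_of_bits fun c k => (q c k).1), ← Nat.card_eq_finsetCard, ← Nat.card_prod]
    refine (Nat.card_le_card_of_injective (fun x : bits N M × (C.P ⊓ 𝐜(φ r) :) => (⟨x.2 * φ (p x.1),
      mul_mem (mem_inf.1 x.2.2).1 (C.mem (p1 _ (mem_bits.1 x.1.2).2))⟩ : C.P)) fun x y e => ?_).trans C.cardP.le
    have e : (x.2 : G) * φ (p x.1) = y.2 * φ (p y.1) := congrArg Subtype.val e
    have k : ∀ x : bits N M × (C.P ⊓ 𝐜(φ r) :), φ x.1 = ((x.2 : G) * φ (p x.1))⁻¹ * φ r * (x.2 * φ (p x.1)) := fun x => by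
      have a := p2 _ (mem_bits.1 x.1.2).2
      have b := c1.1 (mem_inf.1 x.2.2).2
      generalize (x.2 : G) = w, φ x.1 = v, φ (p x.1) = y at a b ⊢
      rw [mul_inv_rev, mul_assoc, mul_assoc, ← mul_assoc _ w, ← b, ← a]; group
    have := Subtype.ext (C.inj _ (mem_bits.1 x.1.2).1 _ (mem_bits.1 y.1.2).1 (by rw [k x, k y, e]))
    exact Prod.ext this (Subtype.ext (mul_right_cancel (this ▸ e)))

/-- a map on codes respecting products gives a homomorphism -/
theorem Cx.lift {K : Type*} [Group K] {ψ : ℕ → K} (h : Hm N (mul W) ψ) :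
    ∃ f : C.P →* K, ∀ a (ha : a < N), f ⟨φ a, C.mem ha⟩ = ψ a := by
  have e : ∀ (x : C.P) a, a < N → φ a = x → x.2.choose = a := fun x a ha e =>
    C.inj _ x.2.choose_spec.1 _ ha (x.2.choose_spec.2.trans e.symm)
  refine ⟨MonoidHom.mk' (fun x => ψ x.2.choose) fun x y => ?_, fun a ha => congrArg ψ (e _ a ha rfl)⟩
  have a := x.2.choose_spec
  have b := y.2.choose_spec
  rw [e (x * y) _ (C.lt a.1 b.1) (by rw [C.mu a.1 b.1, a.2, b.2]; rfl), C.meq _ a.1 _ b.1, (h.2.2 _ a.1 _ b.1).2]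

theorem Cx.idK {kn : List T3} (h : idK N m kn = true) : Kn φ N 1 kn := fun r hr => by
  obtain ⟨a, b⟩ := an_iff.1 (lall_iff.1 h r hr)
  rw [beq_iff.1 b]
  exact ⟨⟨(C.iv a).1, (C.iv a).1, by simp⟩, (C.iv a).2⟩

theorem Cx.inK {g : G} {kn : List T3} (h : Kn φ N g kn) {a : ℕ} (ha : a < N) (k : inK m kn a = true) :
    φ a ∈ Cl φ (dm kn) := (C.sift h ha k).1 _ fun r hr => Cl.mem (mem_dm.2 ⟨r, hr, rfl⟩)

omit C in
theorem Kn.lt {ψ : ℕ → G} {n : ℕ} {g : G} {kn : List T3} (h : Kn ψ n g kn) : ∀ a ∈ dm kn, a < n := fun _ ha =>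
  (f2_left h.f2 ha).elim fun _ q => q.2.1

theorem Cx.nrm {kn : List T3} (h : Kn φ N 1 kn) {a b : ℕ} (i : ivK N m a b = true)
    (k : ∀ r ∈ kn, L33.inK m kn (m (m a r.1) b) = true) : φ a ∈ 𝐍(Cl φ (dm kn)) := by
  obtain ⟨a1, a2, a3⟩ := C.iv i
  refine mem_normalizer_of_cj_le (map_le_iff_le_comap.2 (Cl.le fun x hx => ?_))
  obtain ⟨r, hr, rfl⟩ := mem_dm.1 hx
  have l := (h r hr).1.1
  exact mem_cm (by rw [C.mu (C.lt a1 l) a2, C.mu a1 l, a3]) (C.inK h (C.lt (C.lt a1 l) a2) (k r hr))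

/-- the centralizer in the coded group is listed -/
theorem Cx.cz {ds Z : List ℕ} (l : ∀ a ∈ ds, a < N)
    (h : allBin (fun x => orr (nt (lall (L33.cm m x) ds)) (lany (Nat.beq x) Z)) N (llen W) (nat_lit 0) = true) {x : G}
    (hx : x ∈ C.P) (c : x ∈ 𝐂(Cl φ ds)) : ∃ e ∈ Z, φ e = x := by
  obtain ⟨a, ha, rfl⟩ := hx
  obtain ⟨e, he, q⟩ := lany_iff.1 ((orr_iff.1 (C.allN h a ha)).resolve_left fun n => nt_iff.1 n
    (lall_iff.2 fun d hd => (C.cm ha (l d hd)).2 (cen_c.1 c d hd).symm))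
  exact ⟨e, he, beq_iff.1 q ▸ rfl⟩

theorem Cx.czm {j k x : ℕ} (l : x < N) (h : k ≤ Nat.card (C.P ⊓ 𝐜(φ x) :)) : (czm fs j k N).testBit x = true := by
  have s := C.nth j
  unfold L33.czm
  split
  swap
  · exact bit_full.2 l
  rename_i n M k' e
  rw [e] at s
  cases c : an (Nat.beq n N) (Nat.ble k' k)
  · exact bit_full.2 l
  rw [an_iff, beq_iff, ble_iff] at c
  obtain ⟨rfl, c⟩ := c
  by_contra q
  exact absurd (s.2 x l q _ C.sb) (not_lt.2 (c.trans h))

theorem Cx.cmL {a : ℕ} {l : List ℕ} (ha : a < N) (h : cmL N m a l = true) : ∀ y ∈ l, y < N ∧ φ y ∈ C.P ⊓ 𝐜(φ a) :=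
  fun y hy => by
    obtain ⟨p, q⟩ := an_iff.1 (lall_iff.1 h y hy)
    have p := blt_iff.1 p
    exact ⟨p, C.mem p, c1.2 ((C.cm p ha).1 q)⟩

theorem Cx.cjc {g x y : G} (n : g ∈ 𝐍(C.P)) (e : g * x * g⁻¹ = y) :
    Nat.card (C.P ⊓ 𝐜(x) :) = Nat.card (C.P ⊓ 𝐜(y) :) := by
  rw [← e, ← cj_c1, ← card_cj g, cj_inf, cj_eq_self n]

theorem Cx.rfc {g : G} (n : g ∈ 𝐍(C.P)) {l : List (ℕ × List ℕ)} {us : List (ℕ × ℕ)} {k : List (ℕ × ℕ) → Fa}
    (hu : Us φ N g us) (hk : ∀ us, Us φ N g us → Sem E φ N (k us)) : Sem E φ N (rfc N (llen W) m fs l us k) := by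
  induction l generalizing us k with
  | nil => exact hk us hu
  | cons x l ih =>
    cases us with
    | nil => trivial
    | cons u r =>
      show Sem E φ N (fL x.2 fun eb => Bool.rec .tt (force (cntM (llen W) (L33.spn m (llen W) eb)) fun B =>
        force (Nat.land u.2 (L33.czm fs x.1 B N)) fun M => L33.rfc N (llen W) m fs l r fun r' => k ((u.1, M) :: r'))
        (L33.cmL N m u.1 eb))
      rw [fL_eq]
      cases e : L33.cmL N m u.1 x.2
      · trivial
      obtain ⟨⟨l, c, c1, c2⟩, hr⟩ := List.forall_mem_cons.1 hu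
      show Sem E φ N (force _ _)
      rw [force_eq, force_eq]
      exact ih hr fun us hs => hk _ (List.forall_mem_cons.2 ⟨⟨lt_of_bits fun i q => lt_of_bit l (bit_land.1 q).1, c,
        bit_land.2 ⟨c1, C.czm c2.2.1 ((C.spn_le (C.cmL c2.1 e)).trans (C.cjc n c2.2.2).le)⟩, c2⟩, hs⟩)

end

noncomputable def St.refC (i : ℕ) (l : List (ℕ × List ℕ)) : St.{u} where
  run W m fs := force (sz W) fun N => match nf fs i with
    | .rc kn us q => Bool.rec .tt (rfc N (llen W) m fs l us (.rc kn · q)) (Nat.beq q N)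
    | _ => .tt
  ok C := by
    have s := C.nth i
    rw [force_eq]
    split
    swap
    · trivial
    rename_i kn us q e
    rw [e] at s
    obtain ⟨g, s1, s2, s3⟩ := s
    cases c : Nat.beq q _
    · trivial
    obtain rfl := beq_iff.1 c
    exact C.rfc (C.fl.1 s3).2.1 s2 fun us h => ⟨g, s1, h, s3⟩

noncomputable def St.cz (j M k : ℕ) (cs : List (ℕ × List (ℕ × ℕ))) : St.{u} where
  run W m fs := force (sz W) fun N => force (llen W) fun d => clF N d m cs fun R rs =>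
    gd (an (lall (fun r => blt N (Nat.mul r.2 k)) rs) (an (tb M (nat_lit 0)) (subM (czm fs j k N) (Nat.lor M R)))) (.cz N M k)
  ok {G} _ _ E W m fs xs C := by
    rw [force_eq, force_eq]
    refine C.clF fun R rs a b => gd_ok fun h => ⟨le_rfl, fun x hx q S s => ?_⟩
    simp only [an_iff, lall_iff, blt_iff, tb_iff] at h
    rw [C.eqP s]
    by_contra c
    rw [not_lt] at c
    rcases b x ((bit_lor.1 (subM_spec h.2.2 (C.czm hx c))).resolve_left q) with rfl | ⟨r, hr, p, hp, e⟩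
    · exact q h.2.1
    rw [C.cjc (le_normalizer (C.mem hp)) e] at c
    exact absurd ((Nat.mul_le_mul_left _ c).trans (a r hr).2) (not_le.2 (h.1 r hr))

noncomputable def St.cenS (i : ℕ) (kn : List T3) (ps Z : List ℕ) : St.{u} where
  run W m fs := force (sz W) fun N => f3 kn fun kn => fL (dm kn) fun ds => fL Z fun Z => gd (an (isS fs i N)
    (an (idK N m kn) (an (al2 (fun a b => an (ivK N m a b) (lall (fun r => inK m kn (force (m a r.1) fun x => m x b)) kn)) (tops W) ps)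
    (an (lall (fun z => an (blt z N) (inK m kn z)) Z)
    (allBin (fun x => orr (nt (lall (cm m x) ds)) (lany (Nat.beq x) Z)) N (llen W) (nat_lit 0)))))) (.cen ds Z)
  ok {G} _ _ E W m fs xs C := by
    rw [force_eq, f3_eq, fL_eq, fL_eq]
    refine gd_ok fun h => ?_
    simp only [an_iff, al2_iff, lall_iff, blt_iff, force_eq] at h
    obtain ⟨h1, h2, h3, h4, h5⟩ := h
    have k := C.idK h2
    have z : ∀ x ∈ C.P ⊓ 𝐂(Cl (ev W xs) (dm kn)), (∃ e ∈ Z, ev W xs e = x) ∧ x ∈ Cl (ev W xs) (dm kn) := fun x hx => by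
      obtain ⟨e, he, rfl⟩ := C.cz k.lt h5 hx.1 hx.2
      exact ⟨⟨e, he, rfl⟩, C.inK k (h4 e he).1 (h4 e he).2⟩
    refine ⟨k.lt, fun e he => (h4 e he).1, fun x p q => z x (two_mem (((C.isS h1).mono (le_normalizer_centralizer
      (C.le fun a ha => (f2_left h3 ha).elim fun b r => C.nrm k r.2.1 r.2.2)) le_top).inf_of_le_normalizer le_normalizer le_rfl)
      (fun y hy => le_centralizer_iff.1 le_rfl (z y hy).2) (cen_c.2 q) p)⟩

end CF.L33
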