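import Cfsg.Agent.L33.K2

/-!
The nodes of a proof tree: sequences of steps, transport to another goal, searches.
-/

set_option autoImplicit false
set_option linter.unusedSectionVars false

namespace CF.L33
open CF.HSo CF.Comp Subgroup CF.Loc

universe u

noncomputable def l2 : List (ℕ × ℕ) → List (ℕ × ℕ) → Bool := al2 fun x y => an (Nat.beq x.1 y.1) (Nat.beq x.2 y.2)

noncomputable def feq : Fa → Fa → Bool
  | .rc a b e, .rc c d f => an (al2 (fun x y => an (Nat.beq x.1 y.1) (an (Nat.beq x.2.1 y.2.1) (Nat.beq x.2.2 y.2.2))) a c)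
      (an (l2 b d) (Nat.beq e f))
  | .nf a b, .nf c d => an (Nat.beq a c) (Nat.beq b d)
  | .cen a b, .cen c d => an (leq a c) (leq b d)
  | .tsy a b c, .tsy d e f => an (Nat.beq a d) (an (Nat.beq b e) (Nat.beq c f))
  | .syl a, .syl b => Nat.beq a b
  | .is a, .is b => Nat.beq a b
  | .nsy a b, .nsy c d => an (leq a c) (Nat.beq b d)
  | .ncl a b, .ncl c d => an (Nat.beq a c) (Nat.beq b d)
  | .csy a b, .csy c d => an (leq a c) (leq b d)
  | .cz a b c, .cz d e f => an (Nat.beq a d) (an (Nat.beq b e) (Nat.beq c f))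
  | _, _ => false

theorem feq_spec {f g : Fa} (h : feq f g = true) : f = g := by
  unfold feq at h
  split at h <;> simp only [l2, an_iff, al2_iff, beq_iff, leq_iff, ← Prod.ext_iff, List.forall₂_eq_eq_eq, Bool.false_eq_true] at h
  all_goals simp [h]

noncomputable def stp (W : List Lv) (m : Op2) (ss : List St.{u}) : List Fa → (List Fa → Bool) → Bool :=
  List.rec (motive := fun _ => List Fa → (List Fa → Bool) → Bool) (fun fs k => k fs)
    (fun s _ ih fs k => fwd (s.run W m fs) fun f => ih (f :: fs) k) ss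

noncomputable def Nd.steps (ss : List St.{u}) (n : Nd.{u}) : Nd.{u} where
  chk W m fs := stp W m ss fs (n.chk W m)
  ok {G} _ _ E W m fs xs C h := by
    induction ss generalizing fs with
    | nil => exact n.ok C h
    | cons s ss ih => exact ih _ (C.cons (s.ok C)) ((fwd_eq (s.run W m fs) fun f => stp W m ss (f :: fs) (n.chk W m)).symm.trans h)

noncomputable def Nd.dn : Nd.{u} where
  chk _ _ fs := match nf fs (nat_lit 0) with
    | .dn => true
    | _ => false
  ok C h := by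
    have s := C.nth (nat_lit 0)
    split at h
    · rename_i e
      rwa [e] at s
    · cases h

/-- a fact implies another one after a change of codes -/
noncomputable def imp (m : Op2) (κ : ℕ → ℕ) (n d N D : ℕ) : Fa → Fa → Bool
  | .rc kn _ _, .rc k' [] q => an (Nat.beq q (nat_lit 0)) <| lall (fun r => an (blt r.1 n) (an (blt r.2.1 n) (an (blt r.2.2 n) (force (κ r.1) fun a =>
      an (force (κ r.2.1) fun b => Nat.beq (m a b) (nat_lit 0)) (force (κ r.2.2) fun c => sift m kn a (Nat.beq c)))))) k'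
  | .nf a M, .nf a' M' => an (blt a' n) (an (Nat.beq (κ a') a) (an (Nat.ble M' (full n)) (allM (fun x => tb M (κ x)) d M')))
  | .cen g els, .cen g' els' => an (lall (blt · n) g') (an (lall (blt · n) els')
      (fL (lmap κ g') fun g' => fL (lmap κ els') fun els' =>
        an (lall (fun a => lany (Nat.beq a) g') g) (lall (fun a => lany (Nat.beq a) els') els)))
  | .tsy t M k, .tsy t' M' k' => an (blt t' n) (an (Nat.beq (κ t') t) (an (Nat.beq k' k) (an (Nat.ble M' (full n))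
      (an (allM (fun x => tb M (κ x)) d M') (Nat.beq (cntM d M') k)))))
  | .is a, .is a' => an (blt a' n) (Nat.beq (κ a') a)
  | .nsy g k, .nsy g' k' => an (lall (blt · n) g') (an (Nat.ble k k') (fL (lmap κ g') fun g' =>
      an (force (spn m D g) fun M => lall (tb M) g') (force (spn m D g') fun M => lall (tb M) g)))
  | .ncl z M, .ncl z' M' => an (blt z' n) (an (Nat.beq (κ z') z) (an (Nat.ble M' (full n))
      (an (allM (fun x => tb M (κ x)) d M') (Nat.beq (cntM d M') (cntM D M)))))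
  | .syl k, .syl k' => an (Nat.beq k N) (an (Nat.beq k' n) (Nat.beq n N))
  | .csy g els, .csy g' els' => an (lall (blt · n) g') (an (lall (blt · n) els') (fL (lmap κ g') fun g' =>
      fL (lmap κ els') fun els' => an (force (spn m D g) fun M => lall (tb M) g') (an (force (spn m D g') fun M => lall (tb M) g)
        (Nat.beq (msk els) (msk els')))))
  | _, _ => false

variable {G : Type u} [Group G] [Finite G]

theorem f2_ex {α β : Type*} {R : α → β → Prop} : ∀ {l : List α}, (∀ a ∈ l, ∃ b, R a b) → ∃ l', List.Forall₂ R l l'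
  | [], _ => ⟨[], .nil⟩
  | a :: _, h => by
    obtain ⟨b, hb⟩ := h a List.mem_cons_self
    obtain ⟨l', q⟩ := f2_ex fun x hx => h x (List.mem_cons_of_mem _ hx)
    exact ⟨_, .cons hb q⟩

theorem le_full {M n : ℕ} (h : Nat.ble M (full n) = true) : M < 2 ^ n := (ble_iff.1 h).trans_lt (full_lt n)

section
variable {E : Env G} {W : List Lv} {m : Op2} {fs : List Fa} {xs : List G} (C : Cx E W m fs xs)

local notation "φ" => ev W xs
local notation "N" => sz W

include C

theorem Cx.imp {κ : ℕ → ℕ} {n d : ℕ} {ψ : ℕ → G} (hn : n = 2 ^ d) (hk : ∀ a < n, κ a < N ∧ φ (κ a) = ψ a) (hi : Inj ψ n)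
    {f f' : Fa} (s : Sem E φ N f) (h : imp m κ n d N (llen W) f f' = true) : Sem E ψ n f' := by
  have am : ∀ {M M' : ℕ}, Nat.ble M' (full n) = true → allM (fun x => tb M (κ x)) d M' = true →
      ∀ x, M'.testBit x = true → x < n ∧ M.testBit (κ x) = true := fun l q x hx =>
    ⟨lt_of_bit (le_full l) hx, tb_iff.1 (allM_spec (hn ▸ le_full l) q x hx)⟩
  have sb : ∀ {S : Subgroup G} {M : ℕ}, M < 2 ^ n → (∀ x, M.testBit x = true → ψ x ∈ S) → (bits n M).card = Nat.card S →
      Sb ψ S (M.testBit · = true) := fun {S M} l mm c x => ⟨fun hx => by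
    obtain ⟨y, e⟩ := ((Nat.bijective_iff_injective_and_card (fun a : bits n M => (⟨ψ a, mm _ (mem_bits.1 a.2).2⟩ : S))).2
      ⟨fun a b e => Subtype.ext (hi _ (mem_bits.1 a.2).1 _ (mem_bits.1 b.2).1 (congrArg Subtype.val e)), by
        rw [← c, Nat.card_eq_finsetCard]⟩).2 ⟨x, hx⟩
    exact ⟨y, (mem_bits.1 y.2).2, congrArg Subtype.val e⟩, by rintro ⟨y, hy, rfl⟩; exact mm y hy⟩
  unfold L33.imp at h
  split at h
  · obtain ⟨g, s1, -⟩ := s
    obtain ⟨h0, h⟩ := an_iff.1 h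
    obtain rfl := beq_iff.1 h0
    refine ⟨g, fun r hr => ?_, fun _ h => (List.not_mem_nil h).elim, .z⟩
    have := lall_iff.1 h r hr
    simp only [an_iff, blt_iff, force_eq, beq_iff] at this
    obtain ⟨a, b, c, p, q⟩ := this
    obtain ⟨x, q1, q2⟩ := (C.sift s1 (hk _ a).1 q).2
    rw [← beq_iff.1 q2] at q1
    exact ⟨⟨a, c, by rw [← (hk _ a).2, ← (hk _ c).2, q1.2.2]⟩, b, by
      rw [← (hk _ a).2, ← (hk _ b).2, C.inv (hk _ a).1 (hk _ b).1 p]⟩
  · simp only [an_iff, blt_iff, beq_iff] at h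
    obtain ⟨a, rfl, l, q⟩ := h
    exact ⟨a, le_full l, fun x hx => by
      rw [← (hk _ a).2, ← (hk _ (am l q x hx).1).2]; exact s.2.2 _ (am l q x hx).2⟩
  · simp only [an_iff, blt_iff, beq_iff, lall_iff, lany_iff, fL_eq, lmap_eq, List.mem_map] at h
    obtain ⟨a, b, p, q⟩ := h
    refine ⟨a, b, fun x x1 x2 => ?_⟩
    obtain ⟨⟨e, he, rfl⟩, r⟩ := s.2.2 x x1 fun y hy => by
      obtain ⟨_, ⟨z, hz, rfl⟩, rfl⟩ := p y hy
      rw [(hk _ (a z hz)).2]; exact x2 z hz
    obtain ⟨_, ⟨z, hz, rfl⟩, rfl⟩ := q e he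
    refine ⟨⟨z, hz, (hk _ (b z hz)).2.symm⟩, Cl.le (fun y hy => ?_) r⟩
    obtain ⟨_, ⟨z, hz, rfl⟩, rfl⟩ := p y hy
    rw [(hk _ (a z hz)).2]; exact Cl.mem hz
  · rename_i M k t' M' k'
    simp only [an_iff, blt_iff, beq_iff] at h
    obtain ⟨a, rfl, rfl, l, q, c⟩ := h
    obtain ⟨-, -, S, s1, s2, s3⟩ := s
    exact ⟨a, le_full l, S, sb (le_full l) (fun x hx => (s1 _).2 ⟨_, (am l q x hx).2, (hk _ (am l q x hx).1).2⟩) (by
      rw [s3, ← c, cntM_spec (hn ▸ le_full l), hn]), (hk _ a).2 ▸ s2, s3⟩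
  · simp only [an_iff, blt_iff, beq_iff] at h
    obtain ⟨a, rfl⟩ := h
    exact ⟨a, by rw [← (hk _ a).2]; exact s.2⟩
  · rename_i g k g' k'
    simp only [an_iff, blt_iff, ble_iff, lall_iff, fL_eq, lmap_eq, force_eq, tb_iff] at h
    obtain ⟨a, b, p, q⟩ := h
    refine ⟨a, fun R r n => (s.2 R r ((?_ : Cl ψ g' = Cl φ g) ▸ n)).trans b⟩
    exact le_antisymm (Cl.le fun x hx => (hk _ (a x hx)).2 ▸ (C.spc s.1).2 _ (p _ (List.mem_map_of_mem hx)))
      (Cl.le fun x hx => (C.spn (List.forall_mem_map.2 fun y hy => ⟨(hk _ (a y hy)).1, (hk _ (a y hy)).2 ▸ Cl.mem hy⟩)).2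
        _ (q x hx))
  · simp only [an_iff, blt_iff, beq_iff] at h
    obtain ⟨a, rfl, l, q, c⟩ := h
    obtain ⟨-, l', X, O, s1, s2⟩ := s
    exact ⟨a, le_full l, X, O, sb (le_full l) (fun x hx => (s1 _).2 ⟨_, (am l q x hx).2, (hk _ (am l q x hx).1).2⟩) (by
      rw [C.card l' s1, ← C.cnt l', ← c, cntM_spec (hn ▸ le_full l), hn]), (hk _ a).2 ▸ s2⟩
  · simp only [an_iff, beq_iff] at h
    obtain ⟨rfl, rfl, e⟩ := h
    obtain ⟨-, S, s1, s2⟩ := s
    refine ⟨le_rfl, S, fun x => (sb (full_lt _) (fun x hx => (s1 _).2 ⟨_, hk x (bit_full.1 hx)⟩) (by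
      rw [C.eqP s1, C.cardP, bits, Finset.filter_true_of_mem fun i hi => bit_full.2 (Finset.mem_range.1 hi),
        Finset.card_range, e]) x).trans (by simp only [bit_full]), s2⟩
  · rename_i g els g' els'
    simp only [an_iff, blt_iff, beq_iff, lall_iff, fL_eq, lmap_eq, force_eq, tb_iff] at h
    obtain ⟨a, b, p, q, r⟩ := h
    obtain ⟨s0, -, S, s1, s2⟩ := s
    have r : ∀ x, x ∈ els ↔ x ∈ els'.map κ := fun x => by rw [← bit_msk, r, bit_msk]
    refine ⟨a, b, S, fun x => (s1 x).trans ⟨fun ⟨y, y1, y2⟩ => ?_, fun ⟨y, y1, y2⟩ =>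
      ⟨_, (r _).2 (List.mem_map_of_mem y1), (hk _ (b y y1)).2.trans y2⟩⟩, (?_ : Cl ψ g' = Cl φ g) ▸ s2⟩
    · obtain ⟨z, z1, rfl⟩ := List.mem_map.1 ((r y).1 y1)
      exact ⟨z, z1, (hk _ (b z z1)).2.symm.trans y2⟩
    exact le_antisymm (Cl.le fun x hx => (hk _ (a x hx)).2 ▸ (C.spc s0).2 _ (p _ (List.mem_map_of_mem hx)))
      (Cl.le fun x hx => (C.spn (List.forall_mem_map.2 fun y hy => ⟨(hk _ (a y hy)).1, (hk _ (a y hy)).2 ▸ Cl.mem hy⟩)).2
        _ (q x hx))
  · cases h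

theorem Cx.run {n : Nd.{u}} {f : Fa} (k : n.chk W m (f :: fs) = true) (s : Sem E φ N f) : Cc E := n.ok (C.cons s) k

end

noncomputable def Nd.gos (V : List Lv) (gs : List Fa) (js : List ℕ) (h : Gl.{u} V gs) : Nd.{u} where
  chk W m fs := an (weq W V) (force (sz W) fun N => force (llen W) fun d => al2 (fun g j => fwd (nf fs j) fun f =>
    orr (feq f g) (imp m id N d N d f g)) gs js)
  ok {G} _ _ E W m fs xs C k := by
    simp only [an_iff, force_eq, al2_iff, fwd_eq, orr_iff] at k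
    obtain rfl := weq_spec k.1
    refine h ⟨C.tw, C.rel, Meq.mul W, C.inj, fun g hg => ?_⟩
    obtain ⟨j, -, q⟩ := f2_left k.2 hg
    exact q.elim (feq_spec · ▸ C.nth j) (C.imp C.tw.1.sz_eq (fun a ha => ⟨ha, rfl⟩) C.inj (C.nth j))

theorem inj_of_card {α : Type*} {ψ : ℕ → α} {n : ℕ} {S : Set α} (h : ∀ x ∈ S, ∃ a < n, ψ a = x) (c : n ≤ S.ncard) :
    ∀ a < n, ∀ b < n, ψ a = ψ b → a = b := fun a ha b hb e =>
  Set.injOn_of_ncard_image_eq (s := Set.Iio n) (le_antisymm (Set.ncard_image_le (Set.finite_Iio n)) (by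
    rw [Set.ncard_Iio_nat]
    exact c.trans (Set.ncard_le_ncard h ((Set.finite_Iio n).image _)))) (Set.finite_Iio n) ha hb e

noncomputable def Nd.go (V : List Lv) (gs : List Fa) (es sur js : List ℕ) (t : Tw V) (h : Gl.{u} V gs) : Nd.{u} where
  chk W m fs := force (sz W) fun N => force (sz V) fun n => force (llen V) fun d => fL es fun es =>
    an (lall (blt · N) es) (an (relOK m V es) (an (orr (an (Nat.beq n N)
      (al2 (fun a s => an (blt s n) (Nat.beq (cev m V es s) a)) (tops W) sur))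
      (Nat.beq (cntM (llen W) (imgM (cev m V es) d (full n))) n))
      (al2 (fun g j => imp m (cev m V es) n d N (llen W) (nf fs j) g) gs js)))
  ok {G} _ _ E W m fs xs C k := by
    simp only [an_iff, force_eq, al2_iff, fL_eq, orr_iff, lall_iff, blt_iff, beq_iff] at k
    obtain ⟨k1, k2, k3, k4⟩ := k
    have r := relOK_spec C.hm k1 k2
    have c := fun a => C.hm.cev (W := V) a k1
    have i : Inj (ev V (es.map (ev W xs))) (sz V) := by
      rcases k3 with ⟨e, k3⟩ | k3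
      · have H := hm_of t.1 t.2 r
        refine inj_of_card (S := C.P) ?_ (e.trans C.cardP.symm).le
        rintro _ ⟨a, ha, rfl⟩
        refine C.ind (Q := fun x => ∃ a < sz V, ev V (es.map (ev W xs)) a = x) ⟨0, H.1, H.2.1⟩ ?_ (fun a ha => ?_) a ha
        · rintro _ _ ⟨a, ha, rfl⟩ ⟨b, hb, rfl⟩
          exact ⟨_, (H.2.2 a ha b hb).1, (H.2.2 a ha b hb).2⟩
        · obtain ⟨s, -, s1, rfl⟩ := f2_left k3 ha
          exact ⟨s, s1, (c s).2.symm⟩
      · have q := imgM_spec (f := cev m V es) ((full_lt (sz V)).trans_eq (congrArg (2 ^ ·) t.1.sz_eq))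
        rw [C.cnt (lt_of_bits fun x hx => by obtain ⟨a, -, rfl⟩ := q x hx; exact (c a).1)] at k3
        exact fun a ha b hb e => inj_of_card (ψ := cev m V es) (S := bits (sz W) _) (fun x hx =>
          (q x (mem_bits.1 hx).2).imp fun a r => ⟨bit_full.1 r.1, r.2⟩) (by rw [Set.ncard_coe_finset, k3]) a ha b hb
          (C.inj _ (c a).1 _ (c b).1 (by rw [(c a).2, (c b).2, e]))
    refine h ⟨t, r, Meq.mul V, i, fun g hg => ?_⟩
    obtain ⟨j, -, q⟩ := f2_left k4 hg
    exact C.imp t.1.sz_eq (fun a _ => c a) i (C.nth j) q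

noncomputable def zp3 (f : List ℕ → ℕ) (ds : List (ℕ × ℕ)) : List (List ℕ) → (List T3 → Bool) → Bool :=
  List.rec (motive := fun _ => List (List ℕ) → (List T3 → Bool) → Bool) (fun _ k => k []) (fun x _ ih ws k =>
    List.rec (motive := fun _ => Bool) false (fun w r _ => force (f w) fun c => ih r fun l => k ((x.1, x.2, c) :: l)) ws) ds

theorem zp3_spec {f : List ℕ → ℕ} {P : ℕ × ℕ → List ℕ → Prop} {ds : List (ℕ × ℕ)} {ws : List (List ℕ)}
    (h : List.Forall₂ P ds ws) {k : List T3 → Bool} (q : zp3 f ds ws k = true) :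
    ∃ l, k l = true ∧ ∀ r ∈ l, ∃ w, P (r.1, r.2.1) w ∧ r.2.2 = f w := by
  induction h generalizing k with
  | nil => exact ⟨[], q, fun _ h => (List.not_mem_nil h).elim⟩
  | @cons x w ds ws p _ ih =>
    obtain ⟨l, l1, l2⟩ := ih ((force_eq (f w) fun c => zp3 f ds ws fun l => k ((x.1, x.2, c) :: l)).symm.trans q)
    exact ⟨_, l1, List.forall_mem_cons.2 ⟨⟨w, p, rfl⟩, l2⟩⟩

noncomputable def Nd.srch (i : ℕ) (T : List Ts) (ds : List (ℕ × ℕ)) (ws : List (List ℕ)) (lv : List (ℕ × Nd.{u})) : Nd.{u} where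
  chk W m fs := force (sz W) fun N => match nf fs i with
    | .rc kn (u :: us) q => fL (u.1 :: dm kn) fun env => fL (im kn) fun ce => rts m fs env false T fun T' =>
        f2 ds fun ds => fLL ws fun ws =>
        an (subM (filM (fun c => tst m (c :: ce) T') (llen W) u.2) (msk (lmap Prod.fst lv)))
        (an (al2 (fun x w => an (ivK N m x.1 x.2) (Nat.beq (prd m env w) x.1)) ds ws)
        (lall (fun l => force l.1 fun c => zp3 (prd m (c :: ce)) ds ws fun kn' => l.2.chk W m (.rc kn' us q :: fs)) lv))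
    | _ => false
  ok {G} _ _ E W m fs xs C h := by
    have s := C.nth i
    rw [force_eq] at h
    split at h
    swap
    · cases h
    rename_i kn u us q0 e
    rw [e] at s
    obtain ⟨g, s1, s2, s4⟩ := s
    obtain ⟨⟨l, c, c1, c2⟩, s3⟩ := List.forall_mem_cons.1 s2
    rw [fL_eq, fL_eq] at h
    refine C.rts (P := fun b => b = true → Cc E) (by simp) (fun T' q h => ?_) h
    simp only [an_iff, force_eq, al2_iff, f2_eq, fLL_eq, lall_iff, beq_iff] at h
    have r := List.Forall₂.cons c2 s1.f2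
    have := subM_spec h.1 (((filM_spec (f := fun c => tst m (c :: im kn) T') (C.pw l)).2 c).2 ⟨c1, q g _ r⟩)
    rw [bit_msk, lmap_eq] at this
    obtain ⟨x, hx, rfl⟩ := List.mem_map.1 this
    obtain ⟨kn', k1, k2⟩ := zp3_spec h.2.1 (h.2.2 x hx)
    refine C.run k1 ⟨g, fun y hy => ?_, s3, s4⟩
    obtain ⟨w, ⟨w1, w2⟩, w3⟩ := k2 y hy
    exact ⟨w2 ▸ w3 ▸ C.prd r w, (C.iv w1).2⟩

noncomputable def Nd.split (a ai b : ℕ) (n1 n2 : Nd.{u}) : Nd.{u} where
  chk W m fs := force (sz W) fun N => an (ivK N m a ai) (an (blt b N) (an (n1.chk W m (.rc [(a, ai, b)] [] (nat_lit 0) :: fs))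
    (force (Nat.shiftLeft (nat_lit 1) b) fun M => n2.chk W m (.nf a M :: fs))))
  ok {G} _ _ E W m fs xs C h := by
    simp only [an_iff, force_eq, blt_iff] at h
    obtain ⟨h1, h2, h3, h4⟩ := h
    obtain ⟨a1, a2⟩ := C.iv h1
    by_cases c : IsConj (ev W xs a) (ev W xs b)
    · obtain ⟨g, hg⟩ := isConj_iff.1 c
      exact C.run h3 ⟨g, List.forall_mem_singleton.2 ⟨⟨a1, h2, hg⟩, a2⟩, fun _ h => (List.not_mem_nil h).elim, .z⟩
    · exact C.run h4 ⟨a1, lt_of_bits fun x q => bit_one.1 q ▸ h2, fun x q => bit_one.1 q ▸ c⟩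

end CF.L33
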