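import Cfsg.Agent.L33.G

/-!
The nodes of a proof tree: extensions and normalizers; decoders.
-/

set_option autoImplicit false
set_option linter.unusedSectionVars false

namespace CF.L33
open CF.HSo CF.Comp Subgroup CF.Loc

universe u

variable {G : Type u} [Group G] [Finite G]

/-- an element whose square acts as an inner automorphism acts as a `2`-element -/
theorem two_part {P : Subgroup G} (p : IsPGroup 2 P) {g y : G} (hy : y ∈ P) (c : y⁻¹ * (g * g) ∈ 𝐂(P)) :
    ∃ x, (∃ k, x ^ 2 ^ k = 1) ∧ ∀ z ∈ P, x * z * x⁻¹ = g * z * g⁻¹ := by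
  obtain ⟨a, b, -, hb, ⟨j, o⟩, cb, e⟩ := exists_p_part (p := 2) (isOfFinOrder_of_finite g)
  have pw : ∀ {K : Subgroup G} k, b ^ 2 ^ k ∈ K → b ∈ K := fun k h =>
    zpowers_le.2 h (mem_zpowers_pow_iff.2 (cb.symm.pow_left k))
  have b1 : b ∈ P ⊔ 𝐂(P) := pw 1 (by
    obtain ⟨n, rfl⟩ := hb
    rw [pow_one, ← zpow_natCast, ← zpow_mul, mul_comm, zpow_mul, zpow_natCast, pow_two]
    exact zpow_mem ((mul_mem_cancel_left (inv_mem (mem_sup_left hy))).1 (mem_sup_right c)) n)
  obtain ⟨u, hu, v, hv, rfl⟩ := (mem_sup_of_le_normalizer (centralizer_le_normalizer _)).1 b1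
  obtain ⟨k, hk⟩ := isPGroup_iff_forall.1 p u hu
  have b2 := pw k (by
    rw [Commute.mul_pow (mem_centralizer_iff'.1 hv u hu), hk, one_mul]; exact pow_mem hv _)
  refine ⟨a, ⟨j, o ▸ pow_orderOf_eq_one a⟩, fun z hz => ?_⟩
  rw [e]
  nth_rewrite 1 [← conj_eq_of_mem_centralizer b2 hz]
  group

section
variable {E : Env G} {W : List Lv} {m : Op2} {fs : List Fa} {xs : List G} (C : Cx E W m fs xs)

local notation "φ" => ev W xs
local notation "N" => sz W

include C

theorem Cx.push {L : Lv} {x : G} (l1 : lvOK m W L = true) (q : φ (L.B 0) = x * x)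
    (a : ∀ L' ∈ W, φ (L.A L'.top) = x * φ L'.top * x⁻¹) (n : x ∉ C.P) : Cx E (L :: W) (lvl L m) fs (x :: xs) := by
  have tw := C.tw.cons C.meq l1
  have tp : L.top = N := tw.1.2.1
  have xP : ∀ a < N, ∀ b < N, φ a ≠ φ b * x := fun a ha b hb r => n ((mul_mem_cancel_left (C.mem hb)).1 (r ▸ C.mem ha))
  refine ⟨tw, ⟨C.rel, q, a⟩, C.meq.cons tw.1, fun a ha b hb r => ?_,
    fun f hf => (C.fa f hf).mono (fun a ha => ev_lo (tp ▸ ha)) (tp ▸ Nat.le_add_right _ _)⟩
  change a < L.top + L.top at ha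
  change b < L.top + L.top at hb
  rcases lt_or_ge a L.top with c1 | c1 <;> rcases lt_or_ge b L.top with c2 | c2
  · exact C.inj _ (tp ▸ c1) _ (tp ▸ c2) (by rwa [ev_lo c1, ev_lo c2] at r)
  · rw [ev_lo c1, ev_hi c2] at r
    exact (xP _ (tp ▸ c1) _ (by omega) r).elim
  · rw [ev_hi c1, ev_lo c2] at r
    exact (xP _ (tp ▸ c2) _ (by omega) r.symm).elim
  · rw [ev_hi c1, ev_hi c2] at r
    have := C.inj _ (by omega) _ (by omega) (mul_right_cancel r)
    omega

theorem Cx.mpc {g : G} : ∀ {V : List Lv} {ys : List G} {es : List ℕ}, Bd V → Rel V ys →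
    (∀ a < sz V, a < N ∧ φ a = ev V ys a) → List.Forall₂ (Mp φ N g) (tops V) es → ∀ a < sz V, Mp φ N g a (cev m V es a)
  | [], _, _, _, _, _, _ => fun a ha => Nat.lt_one_iff.1 ha ▸ C.mp0 g
  | L :: r, y :: ys, _, b, k, h, .cons p q => fun a ha => by
    change ∀ a < L.top + L.top, _ at h
    change a < L.top + L.top at ha
    have ih := fun a (ha : a < L.top) => Cx.mpc b.1 k.1 (fun a ha => ⟨(h a (by rw [← b.2.1] at ha; omega)).1,
      (h a (by rw [← b.2.1] at ha; omega)).2.trans (ev_lo (b.2.1 ▸ ha))⟩) q a (b.2.1 ▸ ha)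
    rw [cev_cons]
    split_ifs with c
    · have := C.mpm (ih (a - L.top) (by omega)) p
      refine ⟨(h a ha).1, this.2.1, ?_⟩
      rw [← this.2.2, C.mu (ih (a - L.top) (by omega)).1 p.1, (h a ha).2, (h (a - L.top) (by omega)).2, (h L.top (by omega)).2,
        ev_hi c, ev_hi le_rfl, ev_lo (by omega), Nat.sub_self, ev_zero b.1, one_mul]
    · exact ih a (not_le.1 c)

theorem Cx.mpc' {g : G} {es : List ℕ} (h : List.Forall₂ (Mp φ N g) (tops W) es) : ∀ a < N, Mp φ N g a (cev m W es a) :=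
  C.mpc C.tw.1 C.rel (fun _ h => ⟨h, rfl⟩) h

end

noncomputable def Nd.ext (i j p e : ℕ) (A : List ℕ) (lv : List (Lv × Nd.{u})) : Nd.{u} where
  chk W m fs := force (sz W) fun N => match nf fs j with
    | .cen _ els => fw (nf fs i).kn fun kn => fL A fun A =>
      an (al2 (fun a b => sift m kn a (Nat.beq b)) (tops W) A) (an (blt p N)
      (an (al2 (fun a b => sift m kn b fun c => Nat.beq (m c p) (m p a)) (tops W) A) (an (blt e N)
      (an (sift m kn e fun c => allBin (fun x => nt (Nat.beq (m x e) (m c x))) N (llen W) (nat_lit 0))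
      (an (lall (fun z => force (m p z) fun q => orr (sift m kn q fun c => nt (Nat.beq c q))
        (lany (fun l => Nat.beq (l.1.B (nat_lit 0)) q) lv)) els)
      (lall (fun l => Prod.rec (motive := fun _ => Bool) (fun L n => an (lvOK m W L)
        (an (al2 (fun L' b => Nat.beq (L.A L'.top) b) W A) (n.chk (L :: W) (lvl L m) fs))) l) lv))))))
    | _ => false
  ok {G} _ _ E W m fs xs C h := by
    have s := C.nth j
    rw [force_eq] at h
    split at h
    swap
    · cases h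
    rename_i g0 els e0
    rw [e0] at s
    obtain ⟨g, hg⟩ := C.kn i
    rw [fw_eq, fL_eq] at h
    generalize (nf fs i).kn = kn at h hg
    simp only [an_iff, force_eq, al2_iff, lall_iff, beq_iff, blt_iff, orr_iff, lany_iff] at h
    obtain ⟨h1, h2, h3, h4, h5, h6, h7⟩ := h
    have m1 := f2_imp h1 fun a ha b _ r => show Mp (ev W xs) (sz W) g a b from by
      obtain ⟨x, p, q⟩ := (C.sift hg (C.top_lt ha) r).2
      exact beq_iff.1 q ▸ p
    have n : g ∈ 𝐍(C.P) := mem_normalizer_of_cj_le (map_le_iff_le_comap.2 (C.le fun a ha =>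
      (f2_left m1 ha).elim fun b r => mem_cm r.2.2.2 (C.mem r.2.2.1)))
    have c : (ev W xs p)⁻¹ * (g * g) ∈ 𝐂(C.P) := mem_centralizer_iff'.2 fun y hy => c1.1 (C.le (K := 𝐜(_)) (fun a ha => by
      obtain ⟨k, k1, rfl⟩ := List.getElem_of_mem ha
      have u := List.Forall₂.get m1 k1 (m1.length_eq ▸ k1)
      obtain ⟨x, v, w⟩ := (C.sift hg u.2.1 (List.Forall₂.get h3 k1 (m1.length_eq ▸ k1))).2
      have w := (C.eq v.2.1 h2 h2 u.1).1 (beq_iff.1 w)
      rw [← v.2.2, ← u.2.2] at w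
      refine c1.2 ?_
      change ev W xs ((tops W).get ⟨k, k1⟩) * _ = _ * ev W xs ((tops W).get ⟨k, k1⟩)
      generalize ev W xs ((tops W).get ⟨k, k1⟩) = y at w ⊢
      calc y * ((ev W xs p)⁻¹ * (g * g)) = (ev W xs p)⁻¹ * (ev W xs p * y) * (ev W xs p)⁻¹ * (g * g) := by group
        _ = _ := by rw [← w]; group) hy)
    obtain ⟨x, ⟨k, xk⟩, ac⟩ := two_part C.pg (C.mem h2) c
    have nx : x ∈ 𝐍(C.P) := mem_normalizer_of_cj_le (cj_le_iff_forall.2 fun y hy =>
      ac y hy ▸ conj_mem_of_mem_normalizer n hy)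
    obtain ⟨z, hz, ez⟩ := (s.2.2 ((ev W xs p)⁻¹ * (x * x)) (isPGroup_iff_forall.1 (isPGroup_sup C.pg (isPGroup_zpowers xk)
      (zpowers_le.2 nx)) _ (mul_mem (mem_sup_left (inv_mem (C.mem h2))) (mem_sup_right (mul_mem (mem_zpowers x) (mem_zpowers x)))))
      fun a ha => by
        have y := C.mem (s.1 a ha)
        generalize ev W xs a = y' at y
        have := mem_centralizer_iff'.1 c _ y
        have q : x * x * y' = g * g * y' * (g * g)⁻¹ * (x * x) := by
          rw [show g * g * y' * (g * g)⁻¹ = g * (g * y' * g⁻¹) * g⁻¹ by group, ← ac y' y,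
            ← ac _ (conj_mem_of_mem_normalizer nx y)]; group
        calc _ = y' * ((ev W xs p)⁻¹ * (g * g)) * ((g * g)⁻¹ * (x * x)) := by group
          _ = _ := by rw [this, mul_assoc _ (x * x), q]; group).1
    have q1 := C.lt h2 (s.2.1 z hz)
    have q2 : ev W xs (m p z) = x * x := by rw [C.mu h2 (s.2.1 z hz), ez, mul_inv_cancel_left]
    obtain ⟨⟨L, nd⟩, hl, l0⟩ := (h6 z hz).resolve_left fun r => by
      obtain ⟨y, r1, r2⟩ := (C.sift hg q1 r).2
      exact nt_iff.1 r2 (beq_iff.2 (C.inj _ r1.2.1 _ q1 (by rw [← r1.2.2, ← ac _ (C.mem q1), q2]; group)))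
    obtain ⟨l1, a2, l3⟩ := h7 _ hl
    rw [tops, lmap_eq, List.forall₂_map_left_iff] at m1
    refine nd.ok (C.push l1 ((congrArg _ l0).trans q2) (fun L' hL => ?_) fun ⟨y, y1, y2⟩ => ?_) l3
    · obtain ⟨k, k1, rfl⟩ := List.getElem_of_mem hL
      have u := List.Forall₂.get m1 k1 (m1.length_eq ▸ k1)
      exact (congrArg _ (List.Forall₂.get a2 k1 (m1.length_eq ▸ k1))).trans
        (u.2.2.symm.trans (ac _ (C.mem u.1)).symm)
    · obtain ⟨w, w1, w2⟩ := (C.sift hg h4 h5).2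
      refine nt_iff.1 (C.allN w2 y y1) (beq_iff.2 ((C.eq y1 h4 w1.2.1 y1).2 ?_))
      rw [← w1.2.2, ← ac _ (C.mem h4), y2, inv_mul_cancel_right]

noncomputable def Nd.ext2 (i : ℕ) (A : List ℕ) (lv : List (Lv × Nd.{u})) : Nd.{u} where
  chk W m fs := force (sz W) fun N => match nf fs i with
    | .rc kn _ q => fL A fun A => an (Nat.beq q N) (an (al2 (fun a b => sift m kn a (Nat.beq b)) (tops W) A)
      (an (fL (lmap (cev m W A) A) fun B => allBin (fun y => orr (nt (an (al2 (fun L : Lv => fun b => Nat.beq (m b y) (m y L.top)) W B)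
        (Nat.beq (cev m W A y) y))) (lany (fun l => Nat.beq (l.1.B (nat_lit 0)) y) lv)) N (llen W) (nat_lit 0))
      (lall (fun l => Prod.rec (motive := fun _ => Bool) (fun L n => an (lvOK m W L)
        (an (al2 (fun L' b => Nat.beq (L.A L'.top) b) W A) (n.chk (L :: W) (lvl L m) fs))) l) lv)))
    | _ => false
  ok {G} _ _ E W m fs xs C h := by
    have s := C.nth i
    rw [force_eq] at h
    split at h
    swap
    · cases h
    rename_i kn us q e0
    rw [e0] at s
    obtain ⟨g, hg, -, s⟩ := s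
    simp only [an_iff, fL_eq, al2_iff, lall_iff, beq_iff, lmap_eq] at h
    obtain ⟨rfl, h1, h2, h3⟩ := h
    obtain ⟨g1, -, y, y1, y2⟩ := C.fl.1 s
    have m1 := f2_imp h1 fun a ha b _ r => C.sf hg (C.top_lt ha) r
    have m2 := C.mpc' m1
    rw [tops, lmap_eq, List.forall₂_map_left_iff] at m1
    obtain ⟨⟨L, nd⟩, hl, l0⟩ := lany_iff.1 ((orr_iff.1 (C.allN h2 y y1)).resolve_left fun n => nt_iff.1 n (an_iff.2
      ⟨al2_iff.2 (List.forall₂_map_right_iff.2 (m1.imp fun L b r => beq_iff.2 ((C.eq (m2 b r.2.1).2.1 y1 y1 r.1).2 (by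
        rw [← (m2 b r.2.1).2.2, ← r.2.2, y2]; group)))), beq_iff.2 (C.inj _ (m2 y y1).2.1 _ y1 (by
        rw [← (m2 y y1).2.2, y2]; group))⟩))
    obtain ⟨l1, a2, l3⟩ := h3 _ hl
    refine nd.ok (C.push l1 ((congrArg _ (beq_iff.1 l0)).trans y2) (fun L' hL => ?_) g1) l3
    obtain ⟨k, k1, rfl⟩ := List.getElem_of_mem hL
    exact (congrArg _ (List.Forall₂.get a2 k1 (m1.length_eq ▸ k1))).trans (List.Forall₂.get m1 k1 (m1.length_eq ▸ k1)).2.2.symm

theorem syl_or {P Z : Subgroup G} (p : IsPGroup 2 P) (n : P ≤ 𝐍(Z)) :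
    IsSyl 2 (P ⊓ Z) Z ∨ ∃ g ∈ Z, g ∉ P ∧ g ∈ 𝐍(P) ∧ g * g ∈ P := by
  obtain ⟨S, s, l⟩ := exists_isSyl_ge p (le_sup_left (b := Z))
  have sZ := s.inf_of_le_normalizer le_sup_right (sup_le n le_normalizer)
  by_cases c : S ⊓ Z ≤ P
  · exact .inl (le_antisymm (le_inf c inf_le_right) (inf_le_inf_right Z l) ▸ sZ)
  right
  have q : P < P ⊔ S ⊓ Z := left_lt_sup.2 c
  obtain ⟨x, x1, x2⟩ := SetLike.exists_of_lt (lt_inf_normalizer (s.isPGroup.to_le (sup_le l inf_le_left)) q)
  obtain ⟨k, hk⟩ := isPGroup_iff_forall.1 s.isPGroup x (sup_le l inf_le_left x1.1)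
  obtain ⟨y, y1, y2, y3⟩ : ∃ y ∈ (P ⊔ S ⊓ Z) ⊓ 𝐍(P), y ∉ P ∧ y * y ∈ P := by
    by_contra! c
    have : ∀ k, x ^ 2 ^ k ∉ P := fun k => k.rec (by simpa using x2) fun k ih => by
      rw [pow_succ, pow_mul, pow_two]; exact c _ (pow_mem x1 _) ih
    exact this k (hk ▸ one_mem P)
  obtain ⟨a, ha, b, hb, rfl⟩ := (mem_sup_of_le_normalizer' (le_normalizer_inf (l.trans le_normalizer) n)).1 y1.1
  have bn := (mul_mem_cancel_left (le_normalizer ha)).1 y1.2
  refine ⟨b, hb.2, mt (mul_mem ha) y2, bn, ?_⟩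
  have := mul_mem (inv_mem (conj_mem_of_mem_normalizer bn ha)) (mul_mem (inv_mem ha) y3)
  rwa [show (b * a * b⁻¹)⁻¹ * (a⁻¹ * (a * b * (a * b))) = b * b by group] at this

noncomputable def Nd.up (ds : List ℕ) (n1 n2 : Nd.{u}) : Nd.{u} where
  chk W m fs := force (sz W) fun N => fL ds fun ds => an (lall (blt · N) ds) (an (n1.chk W m (.syl N :: fs))
    (f2 (unk N ds) fun us => n2.chk W m (.rc [] us N :: fs)))
  ok C h := by
    simp only [an_iff, force_eq, fL_eq, f2_eq, lall_iff, blt_iff] at h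
    exact (syl_or (Z := ⊤) C.pg (le_normalizer_of_normal)).elim
      (fun s => C.run h.2.1 ⟨le_rfl, _, C.sb, inf_top_eq C.P ▸ s⟩) fun ⟨g, _, s⟩ => C.run h.2.2 ⟨g,
      fun _ h => (List.not_mem_nil h).elim, C.unk fun y hy => ⟨h.1 y hy, conj_mem_of_mem_normalizer s.2.1 (C.mem (h.1 y hy))⟩,
      C.fl.2 s⟩

noncomputable def Nd.upC (kn : List T3) (ti els ds : List ℕ) (n1 n2 : Nd.{u}) : Nd.{u} where
  chk W m fs := force (sz W) fun N => force (llen W) fun d => f3 kn fun kn => fL (dm kn) fun B => fL els fun els =>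
    fL ds fun ds => an (idK N m kn) (an (force (spn m d B) fun M => al2 (nmK N m B M) (tops W) ti) (an (cenL N d m B els)
    (an (lall (blt · N) ds) (an (n1.chk W m (.csy B els :: fs)) (f2 (unk N ds) fun us => n2.chk W m (.rc kn us N :: fs))))))
  ok {G} _ _ E W m fs xs C h := by
    simp only [an_iff, force_eq, fL_eq, f2_eq, f3_eq, lall_iff, blt_iff] at h
    obtain ⟨h1, h2, h3, h4, h5, h6⟩ := h
    obtain ⟨c1, c2, c3⟩ := C.cenL h3
    have k := C.idK h1
    refine (syl_or C.pg (le_normalizer_centralizer (C.nml c1 h2))).elim (fun s => C.run h5 ⟨c1, c2, _, c3, s⟩)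
      fun ⟨g, z, s⟩ => C.run h6 ⟨g, fun r hr => ⟨⟨(k r hr).1.1, (k r hr).1.2.1, ?_⟩, (k r hr).2⟩,
        C.unk fun y hy => ⟨h4 y hy, conj_mem_of_mem_normalizer s.2.1 (C.mem (h4 y hy))⟩, C.fl.2 s⟩
    rw [conj_eq_of_mem_centralizer z (Cl.mem (mem_dm.2 ⟨r, hr, rfl⟩)), ← (k r hr).1.2.2]
    simp

noncomputable def Nd.upN (B ti ds : List ℕ) (n1 n2 : Nd.{u}) : Nd.{u} where
  chk W m fs := force (sz W) fun N => force (llen W) fun d => fL B fun B => fL ds fun ds => force (spn m d B) fun M =>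
    an (lall (blt · N) B) (an (al2 (nmK N m B M) (tops W) ti) (an (cls m d B M) (an (lall (blt · N) ds)
    (an (n1.chk W m (.nsy B N :: fs)) (f2 (lmap (fun y => (y, Bool.rec (full N) M (tb M y))) ds) fun us =>
      n2.chk W m (.rc [] us N :: fs))))))
  ok {G} _ _ E W m fs xs C h := by
    simp only [an_iff, force_eq, fL_eq, f2_eq, lall_iff, blt_iff, lmap_eq] at h
    obtain ⟨h1, h2, h3, h4, h5, h6⟩ := h
    have n := C.nml h1 h2
    obtain ⟨s1, s2⟩ := C.spc h1
    refine (syl_or C.pg (n.trans le_normalizer)).elim (fun s => C.run h5 ⟨h1, fun R r l =>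
      (s.card_le r l).trans ((card_le_of_le inf_le_left).trans C.cardP.le)⟩)
      fun ⟨g, z, s⟩ => C.run h6 ⟨g, fun _ h => (List.not_mem_nil h).elim, List.forall_mem_map.2 fun y hy => ?_, C.fl.2 s⟩
    cases c : tb (spn m (llen W) B) y
    · obtain ⟨x, x1, x2⟩ := conj_mem_of_mem_normalizer s.2.1 (C.mem (h4 y hy))
      exact ⟨full_lt _, x, bit_full.2 x1, h4 y hy, x1, x2.symm⟩
    · obtain ⟨x, x1, x2⟩ := C.cls h1 s1 h3 _ (conj_mem_of_mem_normalizer z (s2 y (tb_iff.1 c)))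
      exact ⟨s1, x, x1, h4 y hy, lt_of_bit s1 x1, x2.symm⟩

noncomputable def Nd.fspT (i j : ℕ) (ds els ys : List ℕ) (n1 n2 : Nd.{u}) : Nd.{u} where
  chk W m fs := force (sz W) fun N => force (llen W) fun d => match nf fs i with
    | .tsy t M _ => fL ds fun ds => fL els fun els => fL ys fun ys => force (spn m d ds) fun B => an (ivK N m t t)
      (an (tb B t) (an (cmL N m t ds) (an (lall (tb B) ys) (an (cenL N d m ds els)
      (an (n1.chk W m (.csy ds els :: fs)) (force (Nat.land M (czm fs j (Nat.succ (cntM d (msk els))) N)) fun M =>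
        f2 (lmap (fun y => (y, M)) ys) fun us => n2.chk W m (.rc [(t, t, t)] us (nat_lit 0) :: fs)))))))
    | _ => false
  ok {G} _ _ E W m fs xs C h := by
    have s := C.nth i
    rw [force_eq, force_eq] at h
    split at h
    swap
    · cases h
    rename_i t M k e
    rw [e] at s
    simp only [an_iff, force_eq, fL_eq, f2_eq, lall_iff, blt_iff, lmap_eq, tb_iff] at h
    obtain ⟨h1, h2, h3, h4, h5, h6, h7⟩ := h
    obtain ⟨c1, c2, c3⟩ := C.cenL h5
    obtain ⟨b1, b2⟩ := C.spc c1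
    obtain ⟨t1, t2, -⟩ := C.tsy s (.inr trivial)
    obtain ⟨S, sS, l⟩ := exists_isSyl_ge (C.pg.to_inf_left (K := 𝐂(Cl (ev W xs) ds))) inf_le_right
    rcases l.eq_or_lt with e | e
    · exact C.run h6 ⟨c1, c2, _, c3, e ▸ sS⟩
    obtain ⟨g, gt, lg⟩ := t2.exists_cj_le (isPGroup_sup (C.pg.to_le (C.clP c1)) sS.isPGroup
      (sS.le.trans (centralizer_le_normalizer _))) (sup_le (Cl.le fun a ha => (C.cmL s.1 h3 a ha).2.2)
      (sS.le.trans fun x hx => L33.c1.2 (mem_centralizer_iff'.1 hx _ (b2 t h2)).symm))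
    refine C.run h7 ⟨g, List.forall_mem_singleton.2 ⟨⟨s.1, s.1, mul_inv_eq_iff_eq_mul.2 (L33.c1.1 gt)⟩, (C.iv h1).2⟩,
      List.forall_mem_map.2 fun y hy => ?_, .z⟩
    have yB := b2 y (h4 y hy)
    obtain ⟨c, d1, d2⟩ := (t1 _).1 (lg (conj_mem_cj g (mem_sup_left yB)))
    have d3 := lt_of_bit s.2.1 d1
    refine ⟨lt_of_bits fun i q => lt_of_bit s.2.1 (bit_land.1 q).1, c, bit_land.2 ⟨d1, C.czm d3 ?_⟩,
      lt_of_bit b1 (h4 y hy), d3, d2.symm⟩
    exact ((C.cnt_le (lt_of_bits fun i q => c2 i (bit_msk.1 q)) fun i q => (c3 _).2 ⟨i, bit_msk.1 q, rfl⟩).trans_lt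
      (lt_of_not_ge fun k => e.ne (eq_of_le_of_card_ge l k))).trans_le ((card_cj g S).ge.trans (card_le_of_le (le_inf
      (((cj_mono g le_sup_right).trans lg).trans inf_le_left) (by
        rw [d2, ← cj_c1]; exact cj_mono g fun x hx => L33.c1.2 (mem_centralizer_iff'.1 (sS.le hx) _ yB).symm))))

/-! products and goals -/

def Mq (W : List Lv) (m : Op2) : Prop := Bd W → Meq W m

theorem Mq.cons {L : Lv} {r : List Lv} {m : Op2} (h : Mq r m) : Mq (L :: r) (lvl L m) := fun b => (h b.1).cons b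

theorem Mq.nil : Mq [] fun _ _ => nat_lit 0 := fun _ => Meq.mul []

theorem Mq.tab {W : List Lv} {m : Op2} {k T : ℕ} (h : Mq W m) (e : an (Nat.beq k (llen W)) (force (sz W) fun N =>
    allBin (fun a => allBin (fun b => Nat.beq (ft k T a b) (m a b)) N k (nat_lit 0)) N k (nat_lit 0)) = true) :
    Mq W (ft k T) := fun b => by
  obtain ⟨e1, e2⟩ := an_iff.1 e
  obtain rfl := beq_iff.1 e1
  exact (h b).tab b (by rwa [force_eq] at e2)

theorem Tw.mq {L : Lv} {r : List Lv} {m : Op2} (h : Tw r) (q : Mq r m) (k : lvOK m r L = true) : Tw (L :: r) :=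
  h.cons (q h.1) k

noncomputable def fFa (f : Fa) (k : Fa → Bool) : Bool :=
  Fa.rec (motive := fun _ => Bool) (k .tt) (k .dn) (fun a b c => f3 a fun a => f2 b fun b => k (.rc a b c))
    (fun a b => k (.nf a b)) (fun a b => fL a fun a => fL b fun b => k (.cen a b)) (fun a b c => k (.tsy a b c))
    (fun a => k (.syl a)) (fun a => k (.is a))
    (fun a b => fL a fun a => k (.nsy a b)) (fun a b => k (.ncl a b)) (fun a b => fL a fun a => fL b fun b => k (.csy a b))
    (fun a b c => k (.cz a b c)) f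

noncomputable def fF (l : List Fa) : (List Fa → Bool) → Bool :=
  List.rec (motive := fun _ => (List Fa → Bool) → Bool) (fun k => k []) (fun x _ ih k => fFa x fun a => ih fun r => k (a :: r)) l

theorem fF_eq (l : List Fa) (k : List Fa → Bool) : fF l k = k l := by
  induction l generalizing k with
  | nil => rfl
  | cons x l ih =>
    show fFa x (fun a => fF l fun r => k (a :: r)) = _
    cases x <;> simp only [fFa, f3_eq, f2_eq, fL_eq, ih]

theorem Gl.mq {W : List Lv} {m : Op2} {fs : List Fa} (h : Mq W m) (n : Nd.{u}) (k : fF fs (n.chk W m) = true) :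
    Gl.{u} W fs := fun C => n.ok ⟨C.tw, C.rel, h C.tw.1, C.inj, C.fa⟩ ((fF_eq fs (n.chk W m)).symm.trans k)

/-! decoders -/

noncomputable def v1 (n : ℕ) : ℕ → List ℕ :=
  Nat.rec (motive := fun _ => ℕ → List ℕ) (fun _ => []) (fun _ ih x =>
    force (Nat.land x (nat_lit 15)) fun a => force (Nat.shiftRight x (nat_lit 4)) fun y => a :: ih y) n

/-- a list with its length in front -/
noncomputable def w1 (x : ℕ) : List ℕ := u1 (Nat.land x (nat_lit 4095)) (Nat.shiftRight x (nat_lit 12))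
noncomputable def w2 (x : ℕ) : List (ℕ × ℕ) := u2 (Nat.land x (nat_lit 4095)) (Nat.shiftRight x (nat_lit 12))
noncomputable def w3 (x : ℕ) : List T3 := u3 (Nat.land x (nat_lit 4095)) (Nat.shiftRight x (nat_lit 12))

noncomputable def uL (n : ℕ) : ℕ → List (List ℕ) :=
  Nat.rec (motive := fun _ => ℕ → List (List ℕ)) (fun _ => []) (fun _ ih x =>
    force (Nat.land x (nat_lit 4095)) fun k => force (Nat.shiftRight x (nat_lit 12)) fun y =>
      force (Nat.shiftRight y (Nat.mul k (nat_lit 12))) fun z => u1 k y :: ih z) n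

noncomputable def wL (x : ℕ) : List (List ℕ) := uL (Nat.land x (nat_lit 4095)) (Nat.shiftRight x (nat_lit 12))

/-- words with four-bit letters -/
noncomputable def uW (n : ℕ) : ℕ → List (List ℕ) :=
  Nat.rec (motive := fun _ => ℕ → List (List ℕ)) (fun _ => []) (fun _ ih x =>
    force (Nat.land x (nat_lit 255)) fun k => force (Nat.shiftRight x (nat_lit 8)) fun y =>
      force (Nat.shiftRight y (Nat.shiftLeft k (nat_lit 2))) fun z => v1 k y :: ih z) n

noncomputable def wW (x : ℕ) : List (List ℕ) := uW (Nat.land x (nat_lit 4095)) (Nat.shiftRight x (nat_lit 12))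

noncomputable def uT (n : ℕ) : ℕ → List Ts :=
  Nat.rec (motive := fun _ => ℕ → List Ts) (fun _ => []) (fun _ ih x =>
    force (Nat.land (Nat.shiftRight x (nat_lit 4)) (nat_lit 255)) fun a => force (lk x (nat_lit 1)) fun b =>
      force (Nat.shiftRight x (nat_lit 24)) fun y => force (Nat.shiftRight y (Nat.shiftLeft a (nat_lit 2))) fun z =>
      Nat.rec (motive := fun _ => List Ts) (.f (v1 a y) b :: ih z) (fun k _ =>
        force (Nat.shiftRight z (Nat.shiftLeft b (nat_lit 2))) fun r => Nat.rec (motive := fun _ => List Ts)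
          (.e (v1 a y) (v1 b z) :: ih r) (fun _ _ => .n (v1 a y) (v1 b z) :: ih r) k) (Nat.land x (nat_lit 15))) n

noncomputable def wT (x : ℕ) : List Ts := uT (Nat.land x (nat_lit 4095)) (Nat.shiftRight x (nat_lit 12))

noncomputable def uC (n : ℕ) : ℕ → List (ℕ × List T3) :=
  Nat.rec (motive := fun _ => ℕ → List (ℕ × List T3)) (fun _ => []) (fun _ ih x =>
    force (Nat.land x (nat_lit 4095)) fun c => force (lk x (nat_lit 1)) fun k => force (Nat.shiftRight x (nat_lit 24)) fun y =>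
      force (Nat.shiftRight y (Nat.mul k (nat_lit 36))) fun z => (c, u3 k y) :: ih z) n

noncomputable def wC (x : ℕ) : List (ℕ × List T3) := uC (Nat.land x (nat_lit 4095)) (Nat.shiftRight x (nat_lit 12))

end CF.L33
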