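import Cfsg.Agent.L33.H

/-! Short names for steps and nodes with packed arguments. -/

set_option autoImplicit false

namespace CF.L33
open CF.HSo CF.Comp

universe u

noncomputable abbrev lo (x : ℕ) : ℕ := Nat.land x (nat_lit 4095)
noncomputable abbrev hi (x : ℕ) : ℕ := Nat.shiftRight x (nat_lit 12)

noncomputable def sI (x : ℕ) : St.{u} := .inv (lo x) (w3 (hi x))
noncomputable def sC (x y : ℕ) : St.{u} := .comp (w3 x) (w3 y)
noncomputable def sN (x : ℕ) : St.{u} := .nfK (w3 (hi x)) (lo x)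
noncomputable def sD (rv : Bool) (a p j c : ℕ) : St.{u} := .nfD rv a (w3 p) j (wC c)
noncomputable def sB (j a b : ℕ) : St.{u} := .big j (w1 a) (w1 b)
noncomputable def sL (x : ℕ) : St.{u} := .nclK (w3 (hi (hi x))) (lo x) (lo (hi x))
noncomputable def sW (i a b M : ℕ) : St.{u} := .wl i (w2 a) (w3 b) M
noncomputable def sG (i j a b : ℕ) : St.{u} := .grow i j (w3 a) (w1 b)
noncomputable def sU (j a b c : ℕ) : St.{u} := .cenU j (w1 a) (wW b) (w1 c)

structure Gs (W : List Lv) (fs : List Fa) : Prop where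
  out : Gl.{u} W fs

theorem gm {W : List Lv} {m : Op2} {fs : List Fa} (h : Mq W m) (n : Nd.{u}) (k : fF fs (n.chk W m) = true) : Gs.{u} W fs :=
  ⟨Gl.mq h n k⟩

noncomputable def nS (V : List Lv) (gs : List Fa) (x : ℕ) (h : Gs.{u} V gs) : Nd.{u} := .gos V gs (w1 x) h.out
noncomputable def nG (V : List Lv) (gs : List Fa) (a b c : ℕ) (t : Tw V) (h : Gs.{u} V gs) : Nd.{u} :=
  .go V gs (w1 a) (w1 b) (w1 c) t h.out
noncomputable def nR (i t a b : ℕ) (lv : List (ℕ × Nd.{u})) : Nd.{u} := .srch i (wT t) (w2 a) (wW b) lv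
noncomputable def nE (i j p e a : ℕ) (lv : List (Lv × Nd.{u})) : Nd.{u} := .ext i j p e (w1 a) lv
noncomputable def nF (i a : ℕ) (lv : List (Lv × Nd.{u})) : Nd.{u} := .ext2 i (w1 a) lv
noncomputable def nK (x : St.{u}) : Nd.{u} := .steps [x] .dn

noncomputable def twK (W : List Lv) : Bool :=
  List.rec (motive := fun _ => Bool) true (fun L r ih => an ih (lvOK (mul r) r L)) W

theorem twK_ok : ∀ {W : List Lv}, twK W = true → Tw W
  | [], _ => ⟨trivial, trivial⟩
  | _ :: _, h => (twK_ok (an_iff.1 h).1).cons (.mul _) (an_iff.1 h).2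

end CF.L33
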