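import Cfsg.Agent.L33.T
import Cfsg.Agent.L33.P.F65

/-! The result of the computation. -/

namespace CF.L33
open CF.HSo

universe u

theorem gRT : Gs.{u} wRT fRT := gm (fun _ => .mul _) (nS P.W_5 P.F_RT 0x1002003004004 P.G_RT) (by decide +kernel)

theorem mach : Mach.{u} := fun E _ _ _ _ _ _ h => (h.root E).elim fun _ C => gRT.out C

end CF.L33
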