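import Cfsg.Agent.L33.F

/-!
Steps on normalizers.
-/

set_option autoImplicit false
set_option linter.unusedSectionVars false

namespace CF.L33
open CF.HSo CF.Comp Subgroup CF.Loc

universe u

variable {G : Type u} [Group G] [Finite G]

theorem two_of {t : G} (h : t * t = 1) : IsPGroup 2 (zpowers t) :=
  isPGroup_zpowers (k := 1) (by rw [pow_one, pow_two, h])

noncomputable def cls (m : Op2) (d : ℕ) (l : List ℕ) (M : ℕ) : Bool :=
  an (tb M (nat_lit 0)) (allM (fun x => lall (fun g => tb M (m x g)) l) d M)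

/-- `a` with inverse `b` maps the list into the mask -/
noncomputable def nmK (N : ℕ) (m : Op2) (l : List ℕ) (M a b : ℕ) : Bool :=
  an (ivK N m a b) (lall (fun x => force (m a x) fun y => tb M (m y b)) l)

section
variable {E : Env G} {W : List Lv} {m : Op2} {fs : List Fa} {xs : List G} (C : Cx E W m fs xs)

local notation "φ" => ev W xs
local notation "N" => sz W

include C

theorem Cx.spc {l : List ℕ} (h : ∀ a ∈ l, a < N) :
    L33.spn m (llen W) l < 2 ^ N ∧ ∀ x, (L33.spn m (llen W) l).testBit x = true → φ x ∈ Cl φ l :=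
  C.spn fun a ha => ⟨h a ha, Cl.mem ha⟩

theorem Cx.cls {l : List ℕ} {M : ℕ} (hl : ∀ a ∈ l, a < N) (lM : M < 2 ^ N) (h : cls m (llen W) l M = true) :
    ∀ x ∈ Cl φ l, ∃ a, M.testBit a = true ∧ φ a = x := fun x hx => by
  obtain ⟨h0, h⟩ := an_iff.1 h
  simpa [C.z] using Cl.le (K := sbg (fun x => ∀ a, M.testBit a = true → ∃ b, M.testBit b = true ∧ φ b = φ a * x)
    (fun a ha => ⟨a, ha, by simp⟩) fun x y p q a ha => (p a ha).elim fun b r => (q b r.1).imp fun c s =>
      ⟨s.1, by rw [s.2, r.2, mul_assoc]⟩) (fun g hg a ha => ⟨_, tb_iff.1 (lall_iff.1 (allM_spec (C.pw lM) h a ha) g hg),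
      C.mu (lt_of_bit lM ha) (hl g hg)⟩) hx 0 (tb_iff.1 h0)

theorem Cx.nmK {l : List ℕ} {a b : ℕ} (hl : ∀ a ∈ l, a < N) (h : nmK N m l (L33.spn m (llen W) l) a b = true) :
    a < N ∧ φ a ∈ 𝐍(Cl φ l) := by
  obtain ⟨a1, a2, a3⟩ := C.iv (an_iff.1 h).1
  refine ⟨a1, mem_normalizer_of_cj_le (map_le_iff_le_comap.2 (Cl.le fun x hx => ?_))⟩
  have := lall_iff.1 (an_iff.1 h).2 x hx
  rw [force_eq] at this
  exact mem_cm (by rw [C.mu (C.lt a1 (hl x hx)) a2, C.mu a1 (hl x hx), a3]) ((C.spc hl).2 _ (tb_iff.1 this))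

theorem Cx.zen' {a : ℕ} (ha : a < N) (h : C.P ≤ 𝐜(φ a)) : L33.zen m W a = true := lall_iff.2 fun L hL => by
  have l := C.top_lt (a := L.top) (by rw [tops, lmap_eq]; exact List.mem_map_of_mem hL)
  exact (C.cm ha l).2 (c1.1 (h (C.mem l))).symm

theorem Cx.sq {x : ℕ} (hx : x < N) : m x x = 0 ↔ φ x * φ x = 1 := by rw [← C.mu hx hx, C.one (C.lt hx hx)]

theorem Cx.sf {g : G} {kn : List T3} (h : Kn φ N g kn) {a b : ℕ} (ha : a < N) (k : L33.sift m kn a (Nat.beq b) = true) :
    Mp φ N g a b := by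
  obtain ⟨x, p, q⟩ := (C.sift h ha k).2
  exact beq_iff.1 q ▸ p

theorem Cx.ncl {z M a b : ℕ} {g : G} (s : Sem E φ N (.ncl z M)) (c : Mp φ N g z z) (h : Mp φ N g a b)
    (k : M.testBit a = true) : M.testBit b = true := by
  obtain ⟨-, l, X, L, s1, s2, n⟩ := s
  obtain ⟨w, hw, e⟩ := (s1 _).1 ((s2.eq_of_le (Q := C.P ⊓ L) C.pg.to_inf_left (le_inf (fun x hx => by
    obtain ⟨w, hw, rfl⟩ := (s1 x).1 hx
    exact C.mem (lt_of_bit l hw)) s2.le) inf_le_right).le (mem_inf.2 ⟨C.mem h.2.1, h.2.2 ▸ conj_mem_of_mem_normalizer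
      (n (c1.2 (mul_inv_eq_iff_eq_mul.1 c.2.2))) (s2.le ((s1 _).2 ⟨a, k, rfl⟩))⟩))
  exact C.inj _ (lt_of_bit l hw) _ h.2.1 e ▸ hw

end

noncomputable def St.nclK (ops : List T3) (j a : ℕ) : St.{u} where
  run W m fs := match nf fs j with
    | .ncl z M => rsv (sz W) m fs .tt ops fun os => gd (an (tb M a) (an (rop m os z (Nat.beq z))
        (rop m os a fun y => nt (tb M y)))) .dn
    | _ => .tt
  ok C := by
    have s := C.nth j
    split
    swap
    · trivial
    rename_i z M e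
    rw [e] at s
    refine C.rsvF fun os g hg => gd_ok fun h => ?_
    simp only [an_iff, tb_iff] at h
    obtain ⟨x, p, q⟩ := hg (lt_of_bit s.2.1 h.1) h.2.2
    exact (nt_iff.1 q (tb_iff.2 (C.ncl s (hg.eq s.1 h.2.1) p h.1))).elim

noncomputable def St.refE (i j : ℕ) : St.{u} where
  run _ m fs := match nf fs i, nf fs j with
    | .rc kn us q, .ncl z M => gd (sift m kn z (Nat.beq z))
        (f2 (lmap (fun u => (u.1, Bool.rec u.2 (Nat.land u.2 M) (tb M u.1))) us) (.rc kn · q))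
    | _, _ => .tt
  ok C := by
    have s := C.nth i
    have s' := C.nth j
    split
    swap
    · trivial
    rename_i kn us q z M e e'
    rw [e] at s
    rw [e'] at s'
    obtain ⟨g, s1, s2, s3⟩ := s
    refine gd_ok fun h => ?_
    rw [f2_eq, lmap_eq]
    refine ⟨g, s1, List.forall_mem_map.2 fun u hu => ?_, s3⟩
    obtain ⟨l, c, c1, c2⟩ := s2 u hu
    cases k : tb M u.1
    · exact ⟨l, c, c1, c2⟩
    · exact ⟨lt_of_bits fun i q => lt_of_bit l (bit_land.1 q).1, c,
        bit_land.2 ⟨c1, C.ncl s' (C.sf s1 s'.1 h) c2 (tb_iff.1 k)⟩, c2⟩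

noncomputable def St.nsyK (j : ℕ) (l : List (ℕ × ℕ)) : St.{u} where
  run W m fs := force (sz W) fun N => force (llen W) fun d => match nf fs j with
    | .nsy g k => f2 l fun l => force (spn m d g) fun M => gd (an (lall (fun x => nmK N m g M x.1 x.2) l)
        (blt k (cntM d (spn m d (lmap Prod.fst l))))) .dn
    | _ => .tt
  ok {G} _ _ E W m fs xs C := by
    have s := C.nth j
    rw [force_eq, force_eq]
    split
    swap
    · trivial
    rename_i g k e
    rw [e] at s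
    rw [f2_eq, force_eq]
    refine gd_ok fun h => ?_
    simp only [an_iff, lall_iff, blt_iff, lmap_eq] at h
    exact absurd ((C.spn_le (K := C.P ⊓ 𝐍(Cl (ev W xs) g)) (List.forall_mem_map.2 fun x hx => ⟨(C.nmK s.1 (h.1 x hx)).1,
      C.mem (C.nmK s.1 (h.1 x hx)).1, (C.nmK s.1 (h.1 x hx)).2⟩)).trans (s.2 _ C.pg.to_inf_left inf_le_right)) (not_le.2 h.2)

noncomputable def St.nsyQ (i j : ℕ) (l ti : List ℕ) : St.{u} where
  run W m fs := force (sz W) fun N => force (llen W) fun d => match nf fs i, nf fs j with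
    | .rc kn us q, .nsy g k => fL l fun l => force (spn m d l) fun V => force (spn m d g) fun Q => gd (an (Nat.beq q N)
        (an (Nat.ble k N) (an (lall (fun a => an (blt a N) (orr (lany (fun u => an (Nat.beq u.1 a) (subM u.2 V)) us)
          (sift m kn a (tb V)))) l) (an (al2 (nmK N m l V) (tops W) ti) (an (lall (fun a => lall (cm m a) l) g)
          (allBin (fun x => orr (tb Q x) (nt (lall (cm m x) l))) N d (nat_lit 0))))))) .dn
    | _, _ => .tt
  ok {G} _ _ E W m fs xs C := by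
    have s := C.nth i
    have s' := C.nth j
    rw [force_eq, force_eq]
    split
    swap
    · trivial
    rename_i kn us q g k e e'
    rw [e] at s
    rw [e'] at s'
    obtain ⟨x, s1, s2, s3⟩ := s
    rw [fL_eq, force_eq, force_eq]
    refine gd_ok fun h => ?_
    simp only [an_iff, lall_iff, blt_iff, beq_iff, ble_iff, orr_iff, lany_iff, al2_iff] at h
    obtain ⟨rfl, h2, h3, h4, h5, h6⟩ := h
    have l1 := fun a ha => (h3 a ha).1
    obtain ⟨x1, x2, x3⟩ := C.fl.1 s3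
    have e : Cl (ev W xs) g = C.P ⊓ 𝐂(Cl (ev W xs) l) := le_antisymm (le_inf (C.clP s'.1) (Cl.le fun a ha => cen_c.2
      fun b hb => ((C.cm (s'.1 a ha) (l1 b hb)).1 (h5 a ha b hb)).symm)) (by
      rintro _ ⟨⟨a, ha, rfl⟩, c⟩
      exact (C.spc s'.1).2 a (tb_iff.1 ((orr_iff.1 (C.allN h6 a ha)).resolve_right fun n => nt_iff.1 n
        (lall_iff.2 fun b hb => (C.cm ha (l1 b hb)).2 (cen_c.1 c b hb).symm))))
    obtain ⟨j, hj⟩ := C.two x3
    have := s'.2 _ (isPGroup_sup C.pg (isPGroup_zpowers (k := j + 1) (by rw [pow_succ', pow_mul, pow_two, hj]))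
      (zpowers_le.2 x2)) (e ▸ le_normalizer_inf (sup_le le_normalizer (zpowers_le.2 x2)) (le_normalizer_centralizer
      (sup_le (C.le fun a ha => (f2_left h4 ha).elim fun b r => (C.nmK l1 r.2).2) (zpowers_le.2
      (mem_normalizer_of_cj_le (map_le_iff_le_comap.2 (Cl.le fun a ha => (h3 a ha).2.elim
        (fun ⟨u, hu, r1, r2⟩ => (s2 u hu).2.elim fun c r => mem_cm (r1 ▸ r.2.2.2) ((C.spc l1).2 c (subM_spec r2 r.1)))
        fun r => (C.sift s1 (l1 a ha) r).2.elim fun c r => mem_cm r.1.2.2 ((C.spc l1).2 c (tb_iff.1 r.2)))))))))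
    exact (x1 ((eq_of_le_of_card_ge le_sup_left (this.trans (h2.trans C.cardP.ge))).ge
      (mem_sup_right (mem_zpowers x)))).elim

noncomputable def St.cenV (j e : ℕ) : St.{u} where
  run W m fs := match nf fs j with
    | .cen g els => gd (an (blt e (sz W)) (an (lall (cm m e) g) (nt (lany (Nat.beq e) els)))) .dn
    | _ => .tt
  ok C := by
    have s := C.nth j
    split
    swap
    · trivial
    rename_i g els e0
    rw [e0] at s
    refine gd_ok fun h => ?_
    simp only [an_iff, lall_iff, blt_iff, nt_iff, lany_iff, beq_iff] at h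
    obtain ⟨x, p, q⟩ := (s.2.2 _ (C.two (C.mem h.1)) fun a ha => ((C.cm h.1 (s.1 a ha)).1 (h.2.1 a ha)).symm).1
    exact (h.2.2 ⟨x, p, C.inj _ h.1 _ (s.2.1 x p) q.symm⟩).elim

end CF.L33
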