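import Cfsg.Agent.L33.K
import Cfsg.Agent.Loc.Iso

/-!
Steps on the centralizer of the involution, and the exits.
-/

set_option autoImplicit false
set_option linter.unusedSectionVars false

namespace CF.L33
open CF.HSo CF.Comp Subgroup CF.Loc

universe u

variable {G : Type u} [Group G] [Finite G]

theorem cl_one {ψ : ℕ → G} {t : ℕ} : Cl ψ [t] = zpowers (ψ t) :=
  le_antisymm (Cl.le fun _ ha => List.mem_singleton.1 ha ▸ mem_zpowers _) (zpowers_le.2 (Cl.mem List.mem_cons_self))

theorem cen_one {ψ : ℕ → G} {t : ℕ} : 𝐂(Cl ψ [t]) = 𝐜(ψ t) := Subgroup.ext fun _ =>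
  cen_c.trans ⟨fun h => c1.2 (h t List.mem_cons_self).symm, fun h _ ha => List.mem_singleton.1 ha ▸ (c1.1 h).symm⟩

theorem c_le_n {ψ : ℕ → G} {t : ℕ} : 𝐜(ψ t) ≤ 𝐍(Cl ψ [t]) := cen_one.ge.trans (centralizer_le_normalizer _)

theorem n_le_c {ψ : ℕ → G} {t : ℕ} (h : ψ t * ψ t = 1) : 𝐍(Cl ψ [t]) ≤ 𝐜(ψ t) := fun g hg => by
  have := conj_mem_of_mem_normalizer hg (Cl.mem List.mem_cons_self)
  rw [cl_one] at this
  obtain ⟨n, hn⟩ := this
  have q : ψ t ^ (2 : ℤ) = 1 := by rw [zpow_two, h]
  rcases Int.even_or_odd' n with ⟨k, rfl | rfl⟩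
  · simp only [zpow_mul, q, one_zpow] at hn
    rw [conj_eq_one_iff.1 hn.symm]; exact c1.2 (by simp)
  · simp only [zpow_add, zpow_mul, q, one_zpow, one_mul, zpow_one] at hn
    exact c1.2 (mul_inv_eq_iff_eq_mul.1 hn.symm)

theorem small_of {E : Env G} {S : Subgroup G} (s : IsSyl 2 S ⊤) {n : ℕ} (d : n * Nat.card E.H ∣ Nat.card G)
    {k : ℕ} (e : n = 2 ^ k) (c : Nat.card S < 2 ^ (k + 11)) : Cc E := fun h => by
  have : 2 ^ (k + 11) ∣ Nat.card G := (by rw [pow_add, ← e]; exact Nat.mul_dvd_mul_left _ h : _ ∣ n * _).trans d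
  rw [s.card_eq, card_top, Nat.pow_lt_pow_iff_right one_lt_two] at c
  exact c.not_ge ((Nat.prime_two.pow_dvd_iff_le_factorization Nat.card_pos.ne').1 this)

section
variable {E : Env G} {W : List Lv} {m : Op2} {fs : List Fa} {xs : List G} (C : Cx E W m fs xs)

local notation "φ" => ev W xs
local notation "N" => sz W

include C

theorem Cx.same {g g' : List ℕ} (a : ∀ x ∈ g, x < N) (b : ∀ x ∈ g', x < N)
    (p : ∀ x ∈ g', tb (L33.spn m (llen W) g) x = true) (q : ∀ x ∈ g, tb (L33.spn m (llen W) g') x = true) : Cl φ g' = Cl φ g :=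
  le_antisymm (Cl.le fun x hx => (C.spc a).2 _ (tb_iff.1 (p x hx))) (Cl.le fun x hx => (C.spc b).2 _ (tb_iff.1 (q x hx)))

/-- the listed elements form the centralizer in the coded group -/
theorem Cx.cenl {ds els : List ℕ} (h2 : ∀ a ∈ ds, a < N) (h3 : ∀ e ∈ els, L33.cmL N m e ds = true) (h4 : ∀ e ∈ els, e < N)
    (h5 : allBin (fun x => orr (nt (lall (L33.cm m x) ds)) (lany (Nat.beq x) els)) N (llen W) (nat_lit 0) = true) :
    Sb φ (C.P ⊓ 𝐂(Cl φ ds)) (· ∈ els) := fun _ => ⟨fun q => C.cz h2 h5 q.1 q.2, fun ⟨e, he, q⟩ =>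
  q ▸ mem_inf.2 ⟨C.mem (h4 e he), cen_c.2 fun a ha => c1.1 (C.cmL (h4 e he) (h3 e he) a ha).2.2⟩⟩

theorem Cx.nml {l ti : List ℕ} (hl : ∀ a ∈ l, a < N)
    (h : al2 (L33.nmK N m l (L33.spn m (llen W) l)) (tops W) ti = true) : C.P ≤ 𝐍(Cl φ l) :=
  C.le fun _ ha => (f2_left (al2_iff.1 h) ha).elim fun _ r => (C.nmK hl r.2).2

end

noncomputable def cenL (N d : ℕ) (m : Op2) (ds els : List ℕ) : Bool :=
  an (lall (blt · N) ds) (an (lall (fun e => cmL N m e ds) els) (an (lall (blt · N) els)
    (allBin (fun x => orr (nt (lall (cm m x) ds)) (lany (Nat.beq x) els)) N d (nat_lit 0))))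

theorem Cx.cenL {E : Env G} {W : List Lv} {m : Op2} {fs : List Fa} {xs : List G} (C : Cx E W m fs xs) {ds els : List ℕ}
    (h : cenL (sz W) (llen W) m ds els = true) : (∀ a ∈ ds, a < sz W) ∧ (∀ e ∈ els, e < sz W) ∧
      Sb (ev W xs) (C.P ⊓ 𝐂(Cl (ev W xs) ds)) (· ∈ els) := by
  simp only [L33.cenL, an_iff, lall_iff, blt_iff] at h
  exact ⟨h.1, h.2.2.1, C.cenl h.1 h.2.1 h.2.2.1 h.2.2.2⟩

noncomputable def St.tsyC (j : ℕ) : St.{u} where
  run W _ fs := match nf fs j with
    | .csy [t] els => force (msk els) fun M => force (cntM (llen W) M) fun k => .tsy t M k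
    | _ => .tt
  ok {G} _ _ E W m fs xs C := by
    have s := C.nth j
    split
    swap
    · trivial
    rename_i t els e
    rw [e] at s
    obtain ⟨s0, s1, S, s2, s3⟩ := s
    rw [force_eq, force_eq]
    have l := lt_of_bits fun i q => s1 i (bit_msk.1 q)
    have sb : Sb (ev W xs) S ((msk els).testBit · = true) := fun x => by simp only [bit_msk]; exact s2 x
    exact ⟨s0 t List.mem_cons_self, l, S, sb, cen_one (ψ := ev W xs) ▸ s3, (C.card l sb).trans (C.cnt l).symm⟩

noncomputable def St.nsyT (j : ℕ) : St.{u} where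
  run _ m fs := match nf fs j with
    | .tsy t _ k => gd (Nat.beq (m t t) (nat_lit 0)) (.nsy [t] k)
    | _ => .tt
  ok {G} _ _ E W m fs xs C := by
    have s := C.nth j
    split
    swap
    · trivial
    rename_i t M k e
    rw [e] at s
    obtain ⟨s0, -, S, -, s3, s4⟩ := s
    exact gd_ok fun h => ⟨List.forall_mem_singleton.2 s0, fun R r n =>
      (s3.card_le r (n.trans (n_le_c ((C.sq s0).1 (beq_iff.1 h))))).trans s4.le⟩

noncomputable def St.tsyN (j : ℕ) : St.{u} where
  run W m fs := force (sz W) fun N => force (llen W) fun d => match nf fs j with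
    | .nsy [t] k => force (filM (fun x => cm m x t) d (full N)) fun M => gd (Nat.beq (cntM d M) k) (.tsy t M k)
    | _ => .tt
  ok {G} _ _ E W m fs xs C := by
    have s := C.nth j
    rw [force_eq, force_eq]
    split
    swap
    · trivial
    rename_i t k e
    rw [e] at s
    rw [force_eq]
    refine gd_ok fun h => ?_
    have t1 := s.1 t List.mem_cons_self
    have f := filM_spec (f := fun x => cm m x t) (C.pw (full_lt _))
    have l := f.1.trans_eq (congrArg (2 ^ ·) C.tw.1.sz_eq.symm)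
    have sb : Sb (ev W xs) (C.P ⊓ 𝐜(ev W xs t)) ((filM (fun x => cm m x t) (llen W) (full (sz W))).testBit · = true) := fun x =>
      ⟨fun ⟨⟨a, a1, a2⟩, q⟩ => ⟨a, (f.2 a).2 ⟨bit_full.2 a1, (C.cm a1 t1).2 (a2 ▸ c1.1 q)⟩, a2⟩, fun ⟨a, a1, a2⟩ => by
        obtain ⟨p, q⟩ := (f.2 a).1 a1
        exact a2 ▸ mem_inf.2 ⟨C.mem (bit_full.1 p), c1.2 ((C.cm (bit_full.1 p) t1).1 q)⟩⟩
    have c := ((C.card l sb).trans (C.cnt l).symm).trans (beq_iff.1 h)
    exact ⟨t1, l, _, sb, ⟨inf_le_right, C.pg.to_inf_left, fun R r l1 l2 =>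
      (eq_of_le_of_card_ge l1 ((s.2 R r (l2.trans c_le_n)).trans c.ge)).symm⟩, c⟩

noncomputable def St.cenX (j : ℕ) : St.{u} where
  run W m fs := match nf fs j with
    | .csy g els => force (spn m (llen W) g) fun M => gd (lall (tb M) els) (.cen g els)
    | _ => .tt
  ok {G} _ _ E W m fs xs C := by
    have s := C.nth j
    split
    swap
    · trivial
    rename_i g els e
    rw [e] at s
    obtain ⟨s0, s1, S, s2, s3⟩ := s
    rw [force_eq]
    refine gd_ok fun h => ⟨s0, s1, fun x p q => ?_⟩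
    have l : S ≤ Cl (ev W xs) g := fun y hy => by
      obtain ⟨a, a1, rfl⟩ := (s2 y).1 hy
      exact (C.spc s0).2 a (tb_iff.1 (lall_iff.1 h a a1))
    have := two_mem s3 (l.trans (le_centralizer_iff.1 le_rfl)) (cen_c.2 q) p
    exact ⟨(s2 x).1 this, l this⟩

noncomputable def St.csyU (j : ℕ) (g2 : List ℕ) : St.{u} where
  run W m fs := force (llen W) fun d => match nf fs j with
    | .csy g els => fL g2 fun g2 => gd (an (lall (blt · (sz W)) g2) (an (force (spn m d g) fun M => lall (tb M) g2)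
        (force (spn m d g2) fun M => lall (tb M) g))) (.csy g2 els)
    | _ => .tt
  ok {G} _ _ E W m fs xs C := by
    have s := C.nth j
    rw [force_eq]
    split
    swap
    · trivial
    rename_i g els e
    rw [e] at s
    obtain ⟨s0, s1, S, s2, s3⟩ := s
    rw [fL_eq]
    refine gd_ok fun h => ?_
    simp only [an_iff, force_eq, lall_iff, blt_iff] at h
    exact ⟨h.1, s1, S, s2, C.same s0 h.1 h.2.1 h.2.2 ▸ s3⟩

noncomputable def St.csyS (j : ℕ) (ds ti els : List ℕ) : St.{u} where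
  run W m fs := force (sz W) fun N => force (llen W) fun d => match nf fs j with
    | .tsy t _ k => fL ds fun ds => fL els fun els => force (spn m d ds) fun M => gd (an (Nat.beq k N) (an (tb M t)
        (an (al2 (nmK N m ds M) (tops W) ti) (cenL N d m ds els)))) (.csy ds els)
    | _ => .tt
  ok {G} _ _ E W m fs xs C := by
    have s := C.nth j
    rw [force_eq, force_eq]
    split
    swap
    · trivial
    rename_i t M k e
    rw [e] at s
    rw [fL_eq, fL_eq, force_eq]
    refine gd_ok fun h => ?_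
    simp only [an_iff, beq_iff, tb_iff] at h
    obtain ⟨rfl, h2, h3, h4⟩ := h
    obtain ⟨c1, c2, c3⟩ := C.cenL h4
    obtain ⟨-, s2, s3⟩ := C.tsy s (.inr trivial)
    have e : C.P ⊓ 𝐜(ev W xs t) = C.P := eq_of_le_of_card_ge inf_le_left (C.cardP.trans s3.symm).le
    rw [e] at s2
    have l : 𝐂(Cl (ev W xs) ds) ≤ 𝐜(ev W xs t) := fun x hx =>
      L33.c1.2 (mem_centralizer_iff'.1 hx _ ((C.spc c1).2 t h2)).symm
    have n := le_normalizer_centralizer (C.nml c1 h3)
    exact ⟨c1, c2, _, c3, (s2.mono (le_inf s2.le n) inf_le_left).inf_of_le_normalizer (le_inf l le_normalizer) inf_le_right⟩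

noncomputable def St.big (j : ℕ) (ds l : List ℕ) : St.{u} where
  run W m fs := force (sz W) fun N => force (llen W) fun d => match nf fs j with
    | .nsy [a] k => fL ds fun ds => fL l fun l => gd (an (lall (fun x => an (blt x N) (cmL N m x ds)) l)
        (blt k (cntM d (spn m d ds)))) (force (msk l) (.nf a))
    | _ => .tt
  ok {G} _ _ E W m fs xs C := by
    have s := C.nth j
    rw [force_eq, force_eq]
    split
    swap
    · trivial
    rename_i a k e
    rw [e] at s
    rw [fL_eq, fL_eq]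
    refine gd_ok fun h => ?_
    simp only [an_iff, lall_iff, blt_iff] at h
    rw [force_eq]
    refine ⟨s.1 a List.mem_cons_self, lt_of_bits fun x q => (h.1 x (bit_msk.1 q)).1, fun x q r => ?_⟩
    obtain ⟨g, hg⟩ := isConj_iff.1 r.symm
    obtain ⟨x1, x2⟩ := h.1 x (bit_msk.1 q)
    exact h.2.not_ge ((C.spn_le (C.cmL x1 x2)).trans ((card_cj g _).ge.trans (s.2 _ (isPGroup_cj g C.pg.to_inf_left)
      ((cj_mono g inf_le_right).trans (by rw [cj_c1, hg]; exact c_le_n)))))

noncomputable def St.nsyC (j : ℕ) (ops : List T3) (g2 : List ℕ) : St.{u} where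
  run W m fs := match nf fs j with
    | .nsy g k => rsv (sz W) m fs .tt ops fun os => fL g2 fun g2 => gd
        (al2 (fun a b => rop m os a (Nat.beq b)) g g2) (.nsy g2 k)
    | _ => .tt
  ok {G} _ _ E W m fs xs C := by
    have s := C.nth j
    split
    swap
    · trivial
    rename_i l k e
    rw [e] at s
    refine C.rsvF fun os g hg => ?_
    rw [fL_eq]
    refine gd_ok fun h => ?_
    have h1 := f2_imp (al2_iff.1 h) fun a ha b _ q => hg.eq (s.1 a ha) q
    have e : Cl (ev W xs) l = cj[g⁻¹] (Cl (ev W xs) g2) := le_antisymm (Cl.le fun a ha => by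
      obtain ⟨b, hb, r⟩ := f2_left h1 ha
      exact mem_cj.2 (by rw [inv_inv, r.2.2]; exact Cl.mem hb)) (cj_le_iff.2 (Cl.le fun b hb => by
      obtain ⟨a, ha, r⟩ := f2_right h1 hb
      rw [inv_inv, ← r.2.2]; exact conj_mem_cj g (Cl.mem ha)))
    refine ⟨fun b hb => (f2_right h1 hb).elim fun a q => q.2.2.1, fun R r n => (card_cj g⁻¹ R).ge.trans
      (s.2 _ (isPGroup_cj _ r) ?_)⟩
    rw [e, ← cj_normalizer]
    exact cj_mono _ n

noncomputable def St.nsyR (i j : ℕ) (ti : List ℕ) : St.{u} where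
  run W m fs := force (sz W) fun N => force (llen W) fun d => match nf fs i, nf fs j with
    | .rc kn us q, .nsy l k => force (spn m d l) fun V => gd (an (Nat.beq q N)
        (an (Nat.ble k N) (an (lall (fun a => orr (lany (fun u => an (Nat.beq u.1 a) (subM u.2 V)) us)
          (sift m kn a (tb V))) l) (al2 (nmK N m l V) (tops W) ti)))) .dn
    | _, _ => .tt
  ok {G} _ _ E W m fs xs C := by
    have s := C.nth i
    have s' := C.nth j
    rw [force_eq, force_eq]
    split
    swap
    · trivial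
    rename_i kn us q l k e e'
    rw [e] at s
    rw [e'] at s'
    obtain ⟨x, s1, s2, s3⟩ := s
    rw [force_eq]
    refine gd_ok fun h => ?_
    simp only [an_iff, lall_iff, beq_iff, ble_iff, orr_iff, lany_iff] at h
    obtain ⟨rfl, h2, h3, h4⟩ := h
    have l1 := s'.1
    obtain ⟨x1, x2, x3⟩ := C.fl.1 s3
    obtain ⟨j, hj⟩ := C.two x3
    have := s'.2 _ (isPGroup_sup C.pg (isPGroup_zpowers (k := j + 1) (by rw [pow_succ', pow_mul, pow_two, hj]))
      (zpowers_le.2 x2)) (sup_le (C.nml l1 h4) (zpowers_le.2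
      (mem_normalizer_of_cj_le (map_le_iff_le_comap.2 (Cl.le fun a ha => (h3 a ha).elim
        (fun ⟨u, hu, r1, r2⟩ => (s2 u hu).2.elim fun c r => mem_cm (r1 ▸ r.2.2.2) ((C.spc l1).2 c (subM_spec r2 r.1)))
        fun r => (C.sift s1 (l1 a ha) r).2.elim fun c r => mem_cm r.1.2.2 ((C.spc l1).2 c (tb_iff.1 r.2)))))))
    exact (x1 ((eq_of_le_of_card_ge le_sup_left (this.trans (h2.trans C.cardP.ge))).ge
      (mem_sup_right (mem_zpowers x)))).elim

noncomputable def St.nsyF (i j : ℕ) (ds : List ℕ) : St.{u} where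
  run W m fs := force (sz W) fun N => force (llen W) fun d => match nf fs i, nf fs j with
    | .rc kn _ q, .nsy [a] k => fL ds fun ds => gd (an (Nat.beq q N) (an (sift m kn a (Nat.beq a))
        (an (cmL N m a ds) (Nat.ble k (cntM d (spn m d ds)))))) .dn
    | _, _ => .tt
  ok {G} _ _ E W m fs xs C := by
    have s := C.nth i
    have s' := C.nth j
    rw [force_eq, force_eq]
    split
    swap
    · trivial
    rename_i kn us q a k e e'
    rw [e] at s
    rw [e'] at s'
    obtain ⟨x, s1, s2, s3⟩ := s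
    rw [fL_eq]
    refine gd_ok fun h => ?_
    simp only [an_iff, beq_iff, ble_iff] at h
    obtain ⟨rfl, h2, h3, h4⟩ := h
    have a1 := s'.1 a List.mem_cons_self
    obtain ⟨x1, x2, x3⟩ := C.fl.1 s3
    obtain ⟨j, hj⟩ := C.two x3
    have := s'.2 _ ((isPGroup_sup C.pg (isPGroup_zpowers (k := j + 1) (by rw [pow_succ', pow_mul, pow_two, hj]))
      (zpowers_le.2 x2)).to_inf_left (K := 𝐜(ev W xs a))) (inf_le_right.trans c_le_n)
    exact (x1 ((eq_of_le_of_card_ge (inf_le_inf_right _ le_sup_left) (this.trans (h4.trans (C.spn_le (C.cmL a1 h3))))).ge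
      ⟨mem_sup_right (mem_zpowers x), c1.2 (mul_inv_eq_iff_eq_mul.1 (C.sf s1 a1 h2).2.2)⟩).1).elim

noncomputable def St.small (i : ℕ) : St.{u} where
  run W _ fs := force (sz W) fun N => gd (an (isS fs i N) (blt N (nat_lit 2048))) .dn
  ok {G} _ _ E W m fs xs C := by
    rw [force_eq]
    refine gd_ok fun h => ?_
    exact small_of (k := 0) (n := 1) (C.isS (an_iff.1 h).1) (by rw [one_mul]; exact card_subgroup_dvd_card _) rfl
      (C.cardP.trans_lt (blt_iff.1 (an_iff.1 h).2))

noncomputable def St.thK (i jn : ℕ) (vs : List ℕ) : St.{u} where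
  run W m fs := force (sz W) fun N => force (llen W) fun d => match nf fs jn with
    | .nf t M => fL vs fun vs => gd (an (isS fs i N) (an (blt N (nat_lit 4096))
        (an (Nat.beq (m t t) (nat_lit 0)) (an (lall (blt · (nat_lit 2)) vs) (an (relOK Nat.xor W vs)
        (an (Nat.beq (cev Nat.xor W vs t) (nat_lit 1)) (allBin (fun x => orr (Nat.beq x (nat_lit 0)) (orr (tb M x)
          (orr (nt (Nat.beq (m x x) (nat_lit 0))) (Nat.beq (cev Nat.xor W vs x) (nat_lit 1))))) N d (nat_lit 0)))))))) .dn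
    | _ => .tt
  ok {G} _ _ E W m fs xs C := by
    have s := C.nth jn
    rw [force_eq, force_eq]
    split
    swap
    · trivial
    rename_i a M e
    rw [e] at s
    rw [fL_eq]
    refine gd_ok fun h => ?_
    simp only [an_iff, lall_iff, blt_iff, beq_iff] at h
    obtain ⟨h1, h2, h4, h5, h6, h7, h8⟩ := h
    obtain ⟨f, hf⟩ := C.lift (hm_of C.tw.1 C.tw.2 (relOK_spec hm2 h5 h6))
    have v := fun x => hm2.cev (W := W) x h5
    have t2 := (C.sq s.1).1 h4
    have ft : f ⟨_, C.mem s.1⟩ = z2 1 := by rw [hf _ s.1, ← (v _).2, h7]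
    have nH : E.t ∉ E.H := fun q => by
      have top : E.H = ⊤ := eq_top_iff.2 fun x _ => (E.ix x).elim id (mul_mem_cancel_right q).1
      obtain ⟨g, ⟨⟨y, x, hx, rfl⟩, y1, y2⟩, -⟩ := extremal_transfer (M := f.ker.map C.P.subtype) (T := ⊥) (x := ev W xs a)
        (relIndex_top_right C.P ▸ (C.isS h1).not_dvd_relIndex) (map_subtype_le _) (by
          rw [relIndex, ← comap_subtype, comap_map_eq_self_of_injective C.P.subtype_injective, index_ker,
            MonoidHom.range_eq_top.2 (fun y => by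
              have : ∀ y : Multiplicative (ZMod 2), y = 1 ∨ y = z2 1 := by decide
              exact (this y).elim (fun e => ⟨1, e ▸ map_one f⟩) fun e => ⟨_, e ▸ ft⟩), card_top]
          simp) ((pow_two _).trans t2) (by rw [commutator_def, ← top, E.pH, top]; exact mem_top _) IsPGroup.of_bot bot_le
      have y2 : ev W xs x = g⁻¹ * ev W xs a * g := y2
      have y1 : z2 (cev Nat.xor W vs x) = 1 := by rw [(v x).2, ← hf x hx]; exact y1
      have k := C.allN h8 x hx
      simp only [orr_iff, beq_iff, tb_iff, nt_iff] at k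
      rcases k with rfl | k | k | k
      · rw [C.z] at y2
        have : ev W xs a = 1 := by
          have := congrArg (g * · * g⁻¹) y2
          simpa [mul_assoc] using this.symm
        rw [show (⟨_, C.mem s.1⟩ : C.P) = 1 from Subtype.ext this, map_one] at ft
        exact absurd ft (by decide)
      · exact s.2.2 x k (isConj_iff.2 ⟨g⁻¹, by rw [y2, inv_inv]⟩)
      · exact k ((C.sq hx).2 (by rw [y2]; calc _ = g⁻¹ * (ev W xs a * ev W xs a) * g := by group
          _ = 1 := by rw [t2]; group))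
      · rw [k] at y1
        exact absurd y1 (by decide)
    have := E.nH
    refine small_of (k := 1) (C.isS h1) (n := 2) ?_ rfl (C.cardP.trans_lt h2)
    rw [← E.H.index_mul_card]
    refine Nat.mul_dvd_mul_right ?_ _
    have ix : E.H.index = 2 := index_eq_two_iff.2 ⟨E.t, fun x => by
      by_cases c : x ∈ E.H
      · exact .inr ⟨c, fun q => nH ((mul_mem_cancel_left c).1 q)⟩
      · exact .inl ⟨(E.ix x).resolve_left c, c⟩⟩
    rw [ix]

end CF.L33
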