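import Cfsg.Agent.HSo.C

/-!
The root of the computation: an involution `t` and a semidihedral group `⟨s, e⟩` of order 16 in its centralizer.
-/

set_option autoImplicit false

namespace CF.L33
open Subgroup CF.Loc CF.HSo

universe u

structure Rt {G : Type u} [Group G] (t s e r q : G) : Prop where
  t2 : t * t = 1
  s8 : s ^ 8 = 1
  s4 : s ^ 4 ≠ 1
  e2 : e * e = 1
  es : e * s * e = s ^ 3
  ts : t * s = s * t
  te : t * e = e * t
  nt : t ∉ closure {s, e}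
  rt : r * t = t * r
  rz : r * s ^ 4 * r⁻¹ = e
  re : r * e * r⁻¹ = e * s ^ 4
  qt : q * t = t * q
  qi : q * s ^ 2 * q⁻¹ = e * s
  qj : q * (e * s) * q⁻¹ = s ^ 2 * (e * s)
  nl : ∃ L, IsSyl 2 (closure {s, e}) L ∧ 𝐜(t) ≤ 𝐍(L)
  cn : ∀ x : G, (∃ k, x ^ 2 ^ k = 1) → x * t = t * x → x * s = s * x → x * e = e * x →
    x = 1 ∨ x = t ∨ x = s ^ 4 ∨ x = t * s ^ 4

/-- the result of the computation -/
def Mach : Prop := ∀ {G : Type u} [Group G] [Finite G] (E : Env G) [IsSimpleGroup E.H], 𝐂(E.H) = ⊥ →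
  ∀ {s e r q : G}, Rt E.t s e r q → ¬ 2 ^ 11 ∣ Nat.card E.H

end CF.L33
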