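import Cfsg.Agent.L33.I

/-!
The starting point of the proof tree.
-/

set_option autoImplicit false
set_option linter.unusedSectionVars false

namespace CF.L33
open CF.HSo CF.Comp Subgroup CF.Loc

universe u

def wRT : List Lv := [⟨16, 0xb00a00900800e00f00c00d007006005004003002001000, 0xe00f00c00d00a00b008009002003000001007006005004⟩,
  ⟨8, 0x6007004005003002001000, 0x6007004005003002001000⟩,
  ⟨4, 0x3002001000, 0x2003000001⟩,
  ⟨2, 0x1000, 0x1000⟩,
  ⟨1, 0, 0⟩]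

def fRT : List Fa := [.is 2, .rc [(8, 8, 9), (2, 2, 2), (1, 1, 8)] [] 0, .rc [(24, 25, 28), (4, 5, 24), (2, 2, 2), (1, 1, 1)] [] 0,
  .ncl 2 0x33333333, .cen [16, 8, 2] [0, 1, 2, 3]]

variable {G : Type u} [Group G] [Finite G] {s e r q : G}

theorem rel_cons {K : Type*} [Group K] (L : Lv) (r : List Lv) (x : K) (xs : List K) : Rel (L :: r) (x :: xs) ↔
    Rel r xs ∧ ev r xs (L.B 0) = x * x ∧ ∀ L' ∈ r, ev r xs (L.A L'.top) = x * ev r xs L'.top * x⁻¹ := Iff.rfl

theorem rel_nil {K : Type*} [Group K] : Rel [] ([] : List K) ↔ True := Iff.rfl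

theorem Rt.root (E : Env G) (h : Rt E.t s e r q) : ∃ xs, Cx E wRT (mul wRT) fRT xs := by
  have tw : Tw wRT := twK_ok (by decide +kernel)
  generalize ht : E.t = t at h
  have ei : e⁻¹ = e := inv_eq_of_mul_eq_one_right h.e2
  have ek : ∀ k : ℕ, e * s ^ k * e⁻¹ = s ^ (3 * k) := fun k => by rw [← conj_pow, ei, h.es, ← pow_mul]
  have tk : ∀ k : ℕ, t * s ^ k = s ^ k * t := fun k => (Commute.pow_right h.ts k).eq
  have m8 : ∀ k : ℕ, s ^ (8 + k) = s ^ k := fun k => by rw [pow_add, h.s8, one_mul]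
  have ez : e * s ^ 4 = s ^ 4 * e := mul_inv_eq_iff_eq_mul.1 ((ek 4).trans (m8 4))
  have v : ∀ a b c d f : G, ev wRT [a, b, c, d, f] 0 = 1 ∧ ev wRT [a, b, c, d, f] 1 = f ∧ ev wRT [a, b, c, d, f] 2 = d ∧
      ev wRT [a, b, c, d, f] 3 = f * d ∧ ev wRT [a, b, c, d, f] 4 = c ∧ ev wRT [a, b, c, d, f] 8 = b ∧
      ev wRT [a, b, c, d, f] 9 = f * b ∧ ev wRT [a, b, c, d, f] 16 = a ∧ ev wRT [a, b, c, d, f] 24 = b * a ∧
      ev wRT [a, b, c, d, f] 28 = c * b * a := fun a b c d f => by simp [ev, wRT]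
  have rel : Rel wRT [s, e, s ^ 2, t, s ^ 4] := by
    have a1 : Lv.B ⟨16, 0xb00a00900800e00f00c00d007006005004003002001000, 0xe00f00c00d00a00b008009002003000001007006005004⟩ 0 = 4 := by
      decide +kernel
    have a2 : ∀ x ∈ [(1, 1), (2, 2), (4, 4), (8, 13)], Lv.A ⟨16, 0xb00a00900800e00f00c00d007006005004003002001000,
      0xe00f00c00d00a00b008009002003000001007006005004⟩ x.1 = x.2 := by decide +kernel
    have b1 : Lv.B ⟨8, 0x6007004005003002001000, 0x6007004005003002001000⟩ 0 = 0 := by decide +kernel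
    have b2 : ∀ x ∈ [(1, 1), (2, 2), (4, 5)], Lv.A ⟨8, 0x6007004005003002001000, 0x6007004005003002001000⟩ x.1 = x.2 := by
      decide +kernel
    have c1 : Lv.B ⟨4, 0x3002001000, 0x2003000001⟩ 0 = 1 := by decide +kernel
    have c2 : ∀ x ∈ [(1, 1), (2, 2)], Lv.A ⟨4, 0x3002001000, 0x2003000001⟩ x.1 = x.2 := by decide +kernel
    have d1 : Lv.B ⟨2, 0x1000, 0x1000⟩ 0 = 0 := by decide +kernel
    have d2 : Lv.A ⟨2, 0x1000, 0x1000⟩ 1 = 1 := by decide +kernel
    have f1 : Lv.B ⟨1, 0, 0⟩ 0 = 0 := by decide +kernel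
    simp only [List.forall_mem_cons, List.not_mem_nil, false_imp_iff, implies_true, and_true] at a2 b2 c2
    simp only [rel_cons, rel_nil, wRT, List.forall_mem_cons, List.not_mem_nil, false_imp_iff, implies_true, and_true, a1, a2, b1, b2, c1, c2,
      d1, d2, f1, true_and]
    simp only [ev, Nat.reduceLeDiff, if_true, if_false, Nat.reduceSub, one_mul, le_refl, Nat.sub_self]
    refine ⟨⟨⟨⟨?_, h.t2.symm, ?_⟩, ?_, ?_, ?_⟩, h.e2.symm, ?_, ?_, ?_⟩, pow_two s, ?_, ?_, ?_, ?_⟩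
    · rw [← pow_add, h.s8]
    · rw [tk, mul_inv_cancel_right]
    · rw [← pow_add]
    · rw [← tk, mul_inv_cancel_right]
    · group
    · rw [ek, ← pow_add]
    · rw [← h.te, mul_inv_cancel_right]
    · rw [ez, mul_inv_cancel_right]
    · rw [eq_mul_inv_iff_mul_eq, ← pow_add, mul_assoc, show e * s = s ^ 3 * e from by rw [← h.es, mul_assoc, h.e2, mul_one],
        ← mul_assoc, ← pow_add, m8 1, pow_one]
    · group
    · rw [← h.ts, mul_inv_cancel_right]
    · group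
  have H := hm_of tw.1 tw.2 rel
  obtain ⟨v0, v1, v2, v3, v4, v8, v9, v16, v24, v28⟩ := v s e (s ^ 2) t (s ^ 4)
  generalize hφ : ev wRT [s, e, s ^ 2, t, s ^ 4] = φ at *
  have zX : ∀ k : ℕ, s ^ k ∈ closure {s, e} := fun k => pow_mem (subset_closure (by simp)) k
  have ker : ∀ c < 32, φ c = 1 → c = 0 := fun c hc o => by
    have mu : ∀ a < 32, ∀ b < 32, mul wRT a b < 32 ∧ φ (mul wRT a b) = φ a * φ b := H.2.2
    rcases (by decide +kernel : ∀ c < 32, c = 0 ∨ c = 1 ∨ c = 2 ∨ c = 3 ∨ mul wRT c c = 1 ∨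
      mul wRT (mul wRT c c) (mul wRT c c) = 1 ∨ mul wRT c 4 = mul wRT 1 (mul wRT 4 c)) c hc with k | rfl | rfl | rfl | k | k | k
    · exact k
    · exact (h.s4 (v1 ▸ o)).elim
    · exact (h.nt (v2 ▸ o ▸ one_mem _)).elim
    · exact (h.nt ((mul_mem_cancel_left (zX 4)).1 (v3 ▸ o ▸ one_mem _))).elim
    · exact (h.s4 (by rw [← v1, ← k, (mu c hc c hc).2, o, mul_one])).elim
    · exact (h.s4 (by rw [← v1, ← k, (mu _ (mu c hc c hc).1 _ (mu c hc c hc).1).2, (mu c hc c hc).2, o]; simp)).elim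
    · have := congrArg φ k
      rw [(mu c hc 4 (by decide)).2, (mu 1 (by decide) _ (mu 4 (by decide) c hc).1).2, (mu 4 (by decide) c hc).2, o, v1] at this
      exact (h.s4 (by simpa using this)).elim
  have C : Cx E wRT (mul wRT) [] [s, e, s ^ 2, t, s ^ 4] := ⟨tw, rel, .mul _, hφ ▸ fun a ha b hb k => by
    by_contra n
    obtain ⟨d, d1, d2, d3⟩ := (by decide +kernel : ∀ a < 32, ∀ b < 32, a ≠ b → ∃ d < 32, mul wRT b d = 0 ∧ mul wRT a d ≠ 0)
      a ha b hb n
    exact d3 (ker _ (H.2.2 a ha d d1).1 (by rw [(H.2.2 a ha d d1).2, k, ← (H.2.2 b hb d d1).2, d2, v0])), nofun⟩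
  have iv : ∀ a < 32, ∀ b < 32, mul wRT a b = 0 → φ b = (φ a)⁻¹ := fun a ha b hb k => hφ ▸ C.inv ha hb k
  refine ⟨_, tw, rel, .mul _, C.inj, ?_⟩
  rw [hφ]
  have n : sz wRT = 32 := rfl
  simp only [fRT, List.forall_mem_cons, List.not_mem_nil, false_imp_iff, implies_true, and_true, n]
  refine ⟨⟨by decide, v2.trans ht.symm⟩, ⟨r, ?_, nofun, .z⟩, ⟨q, ?_, nofun, .z⟩, ⟨by decide, by decide, ?_⟩,
    by decide, by decide, fun x p c => ?_⟩
  · simp only [Kn, Mp, List.forall_mem_cons, List.not_mem_nil, false_imp_iff, implies_true, and_true]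
    refine ⟨⟨⟨by decide, by decide, ?_⟩, by decide, iv _ (by decide) _ (by decide) (by decide +kernel)⟩,
      ⟨⟨by decide, by decide, ?_⟩, by decide, iv _ (by decide) _ (by decide) (by decide +kernel)⟩,
      ⟨by decide, by decide, ?_⟩, by decide, iv _ (by decide) _ (by decide) (by decide +kernel)⟩
    · rw [v8, v9, h.re, ez]
    · rw [v2, h.rt, mul_inv_cancel_right]
    · rw [v1, v8, h.rz]
  · simp only [Kn, Mp, List.forall_mem_cons, List.not_mem_nil, false_imp_iff, implies_true, and_true]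
    refine ⟨⟨⟨by decide, by decide, ?_⟩, by decide, iv _ (by decide) _ (by decide) (by decide +kernel)⟩,
      ⟨⟨by decide, by decide, ?_⟩, by decide, iv _ (by decide) _ (by decide) (by decide +kernel)⟩,
      ⟨⟨by decide, by decide, ?_⟩, by decide, iv _ (by decide) _ (by decide) (by decide +kernel)⟩,
      ⟨by decide, by decide, ?_⟩, by decide, iv _ (by decide) _ (by decide) (by decide +kernel)⟩
    · rw [v24, v28, h.qj, mul_assoc]
    · rw [v4, v24, h.qi]
    · rw [v2, h.qt, mul_inv_cancel_right]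
    · rw [v1, show s ^ 4 = s ^ 2 * s ^ 2 by rw [← pow_add], ← conj_mul, h.qi, ← mul_assoc, h.es, ← pow_succ, ← pow_add]
  · obtain ⟨L, l1, l2⟩ := h.nl
    have cl : Cl φ [16, 8] = closure {s, e} := le_antisymm (Cl.le (by
      simp only [List.forall_mem_cons, v16, v8]
      exact ⟨subset_closure (by simp), subset_closure (by simp), nofun⟩)) ((closure_le _).2 (by
      rintro _ (rfl | rfl)
      exacts [v16 ▸ Cl.mem (by simp), v8 ▸ Cl.mem (by simp)]))
    have sp := C.spn (K := closure {s, e}) (l := [16, 8, 4, 1]) (by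
      simp only [List.forall_mem_cons, hφ, v16, v8, v4, v1]
      exact ⟨⟨by decide, subset_closure (by simp)⟩, ⟨by decide, subset_closure (by simp)⟩, ⟨by decide, zX 2⟩,
        ⟨by decide, zX 4⟩, nofun⟩)
    rw [show spn (mul wRT) (llen wRT) [16, 8, 4, 1] = 0x33333333 by decide +kernel, hφ] at sp
    refine ⟨_, L, fun x => ⟨fun hx => ?_, fun ⟨a, a1, a2⟩ => a2 ▸ sp.2 a a1⟩, l1, v2 ▸ l2⟩
    have := C.cls (l := [16, 8]) (by decide) sp.1 (by decide +kernel) x
    rw [hφ, cl] at this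
    exact this hx
  · simp only [List.forall_mem_cons, v16, v8, v2] at c
    have a : t ∈ Cl φ [16, 8, 2] := v2 ▸ Cl.mem (by simp)
    have b : s ^ 4 ∈ Cl φ [16, 8, 2] := pow_mem (v16 ▸ Cl.mem (by simp)) 4
    rcases h.cn x p c.2.2.1.symm c.1.symm c.2.1.symm with rfl | rfl | rfl | rfl
    · exact ⟨⟨0, by simp, v0⟩, one_mem _⟩
    · exact ⟨⟨2, by simp, v2⟩, a⟩
    · exact ⟨⟨1, by simp, v1⟩, b⟩
    · exact ⟨⟨3, by simp, v3.trans (tk 4).symm⟩, mul_mem a b⟩

end CF.L33
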